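import Mathlib

/-!
# S4577, row `A_n`: swaps of two cycles of the same length (helper263)

`IsSw X ω ω' t` : the permutation `t` exchanges `X ^ j ω` and `X ^ j ω'` for all `j` and fixes all other points.
-/

set_option autoImplicit false
set_option linter.unusedSectionVars false

open Equiv Equiv.Perm

namespace Cfsg.Agent.H263.KS

section Cyc

theorem inv_self {Ω : Type*} (g : Perm Ω) (z : Ω) : g⁻¹ (g z) = z := by
  rw [← Perm.mul_apply, inv_mul_cancel, Perm.one_apply]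

theorem self_inv {Ω : Type*} (g : Perm Ω) (z : Ω) : g (g⁻¹ z) = z := by
  rw [← Perm.mul_apply, mul_inv_cancel, Perm.one_apply]

variable {Ω : Type*} (X : Perm Ω)

/-- the cycle of `ω` -/
def Cyc (ω : Ω) : Set Ω := {z | ∃ j : ℤ, z = (X ^ j) ω}

variable {X}

theorem mem_self (ω : Ω) : ω ∈ Cyc X ω := ⟨0, by rw [zpow_zero, Perm.one_apply]⟩

theorem zpow_zpow (i j : ℤ) (ω : Ω) : (X ^ i) ((X ^ j) ω) = (X ^ (i + j)) ω := by
  rw [zpow_add, Perm.mul_apply]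

theorem zpow_mem {z ω : Ω} (j : ℤ) : (X ^ j) z ∈ Cyc X ω ↔ z ∈ Cyc X ω := by
  constructor
  · rintro ⟨i, hi⟩
    refine ⟨-j + i, ?_⟩
    rw [← zpow_zpow, ← hi, zpow_zpow, neg_add_cancel, zpow_zero, Perm.one_apply]
  · rintro ⟨i, rfl⟩
    exact ⟨j + i, by rw [zpow_zpow]⟩

theorem mem_symm {z ω : Ω} (h : z ∈ Cyc X ω) : ω ∈ Cyc X z := by
  obtain ⟨j, rfl⟩ := h
  exact ⟨-j, by rw [zpow_zpow, neg_add_cancel, zpow_zero, Perm.one_apply]⟩

theorem mem_trans {z w ω : Ω} (h : z ∈ Cyc X ω) (h' : w ∈ Cyc X z) : w ∈ Cyc X ω := by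
  obtain ⟨j, rfl⟩ := h'
  exact (zpow_mem j).2 h

theorem zcomm {g : Perm Ω} (hg : g * X = X * g) (j : ℤ) (z : Ω) : g ((X ^ j) z) = (X ^ j) (g z) := by
  rw [← Perm.mul_apply, ← Perm.mul_apply, ((show Commute g X from hg).zpow_right j).eq]

theorem map_mem {g : Perm Ω} (hg : g * X = X * g) {z ω : Ω} (h : z ∈ Cyc X ω) : g z ∈ Cyc X (g ω) := by
  obtain ⟨j, rfl⟩ := h
  exact ⟨j, zcomm hg j ω⟩

variable (X) in
/-- the length of the cycle of `ω` -/
noncomputable def per (ω : Ω) : ℕ := Function.minimalPeriod (fun z => X • z) ω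

theorem zpow_eq_iff (j : ℤ) (ω : Ω) : (X ^ j) ω = ω ↔ (per X ω : ℤ) ∣ j :=
  MulAction.zpow_smul_eq_iff_minimalPeriod_dvd (a := X) (b := ω) (n := j)

theorem per_eq_iff {ω ω' : Ω} : per X ω = per X ω' ↔ ∀ j : ℤ, (X ^ j) ω = ω ↔ (X ^ j) ω' = ω' := by
  constructor
  · intro h j
    rw [zpow_eq_iff, zpow_eq_iff, h]
  · intro h
    apply Nat.dvd_antisymm
    · have := (h (per X ω')).2 ((zpow_eq_iff _ _).2 dvd_rfl)
      exact_mod_cast (zpow_eq_iff _ _).1 this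
    · have := (h (per X ω)).1 ((zpow_eq_iff _ _).2 dvd_rfl)
      exact_mod_cast (zpow_eq_iff _ _).1 this

theorem per_map {g : Perm Ω} (hg : g * X = X * g) (ω : Ω) : per X ω = per X (g ω) := by
  rw [per_eq_iff]
  intro j
  rw [← zcomm hg]
  exact ⟨fun h => by rw [h], fun h => g.injective h⟩

theorem ncard_cyc [Finite Ω] (ω : Ω) : (Cyc X ω).ncard = per X ω := by
  have h1 : Cyc X ω = MulAction.orbit (Subgroup.zpowers X) ω := by
    ext z
    constructor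
    · rintro ⟨j, rfl⟩
      exact ⟨⟨X ^ j, ⟨j, rfl⟩⟩, rfl⟩
    · rintro ⟨⟨_, j, rfl⟩, rfl⟩
      exact ⟨j, rfl⟩
  rw [h1, ← Nat.card_coe_set_eq, Nat.card_congr (MulAction.orbitZPowersEquiv X ω), Nat.card_zmod]
  rfl

theorem per_odd {N : ℕ} (hN : X ^ (2 * N + 1) = 1) (ω : Ω) : Odd (per X ω) := by
  have h1 : (X ^ ((2 * N + 1 : ℕ) : ℤ)) ω = ω := by rw [zpow_natCast, hN, Perm.one_apply]
  rw [zpow_eq_iff] at h1
  have h2 : per X ω ∣ 2 * N + 1 := by exact_mod_cast h1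
  exact Odd.of_dvd_nat ⟨N, rfl⟩ h2

end Cyc

/-- `t` exchanges the cycles of `ω` and `ω'` -/
structure IsSw {Ω : Type*} (X : Perm Ω) (ω ω' : Ω) (t : Perm Ω) : Prop where
  l : ∀ j : ℤ, t ((X ^ j) ω) = (X ^ j) ω'
  r : ∀ j : ℤ, t ((X ^ j) ω') = (X ^ j) ω
  o : ∀ z, z ∉ Cyc X ω → z ∉ Cyc X ω' → t z = z

namespace IsSw

variable {Ω : Type*} {X t : Perm Ω} {ω ω' : Ω}

theorem symm (h : IsSw X ω ω' t) : IsSw X ω' ω t := ⟨h.r, h.l, fun z h1 h2 => h.o z h2 h1⟩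

theorem l0 (h : IsSw X ω ω' t) : t ω = ω' := by simpa using h.l 0

theorem r0 (h : IsSw X ω ω' t) : t ω' = ω := by simpa using h.r 0

theorem uniq (h : IsSw X ω ω' t) {s : Perm Ω} (h' : IsSw X ω ω' s) : t = s := by
  ext z
  by_cases h1 : z ∈ Cyc X ω
  · obtain ⟨j, rfl⟩ := h1
    rw [h.l, h'.l]
  · by_cases h2 : z ∈ Cyc X ω'
    · obtain ⟨j, rfl⟩ := h2
      rw [h.r, h'.r]
    · rw [h.o z h1 h2, h'.o z h1 h2]

theorem sq (h : IsSw X ω ω' t) : t * t = 1 := by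
  ext z
  rw [Perm.mul_apply, Perm.one_apply]
  by_cases h1 : z ∈ Cyc X ω
  · obtain ⟨j, rfl⟩ := h1
    rw [h.l, h.r]
  · by_cases h2 : z ∈ Cyc X ω'
    · obtain ⟨j, rfl⟩ := h2
      rw [h.r, h.l]
    · rw [h.o z h1 h2, h.o z h1 h2]

theorem comm (h : IsSw X ω ω' t) : t * X = X * t := by
  ext z
  rw [Perm.mul_apply, Perm.mul_apply]
  have e1 : X z = (X ^ (1 : ℤ)) z := by rw [zpow_one]
  by_cases h1 : z ∈ Cyc X ω
  · obtain ⟨j, rfl⟩ := h1
    rw [e1, zpow_zpow, h.l, h.l, ← zpow_zpow, zpow_one]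
  · by_cases h2 : z ∈ Cyc X ω'
    · obtain ⟨j, rfl⟩ := h2
      rw [e1, zpow_zpow, h.r, h.r, ← zpow_zpow, zpow_one]
    · rw [h.o z h1 h2, h.o (X z)]
      · rwa [e1, zpow_mem]
      · rwa [e1, zpow_mem]

theorem conj (h : IsSw X ω ω' t) {g : Perm Ω} (hg : g * X = X * g) : IsSw X (g ω) (g ω') (g * t * g⁻¹) := by
  refine ⟨fun j => ?_, fun j => ?_, fun z h1 h2 => ?_⟩
  · rw [Perm.mul_apply, Perm.mul_apply, ← zcomm hg, inv_self, h.l, zcomm hg]
  · rw [Perm.mul_apply, Perm.mul_apply, ← zcomm hg, inv_self, h.r, zcomm hg]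
  · rw [Perm.mul_apply, Perm.mul_apply, h.o, self_inv]
    · intro h3
      apply h1
      have := map_mem hg h3
      rwa [self_inv] at this
    · intro h3
      apply h2
      have := map_mem hg h3
      rwa [self_inv] at this

/-- commutation with `g` fixing or exchanging `ω`, `ω'` -/
theorem comm_of (h : IsSw X ω ω' t) {g : Perm Ω} (hg : g * X = X * g)
    (h' : (g ω = ω ∧ g ω' = ω') ∨ (g ω = ω' ∧ g ω' = ω)) : g * t = t * g := by
  have h1 := h.conj hg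
  have h2 : g * t * g⁻¹ = t := by
    rcases h' with ⟨h3, h4⟩ | ⟨h3, h4⟩
    · rw [h3, h4] at h1
      exact h1.uniq h
    · rw [h3, h4] at h1
      exact h1.uniq h.symm
  exact mul_inv_eq_iff_eq_mul.1 h2

/-- disjoint swaps -/
theorem disj (h : IsSw X ω ω' t) {s : Perm Ω} {v v' : Ω} (h' : IsSw X v v' s) (h1 : v ∉ Cyc X ω) (h2 : v ∉ Cyc X ω')
    (h3 : v' ∉ Cyc X ω) (h4 : v' ∉ Cyc X ω') : Perm.Disjoint t s := by
  intro z
  by_cases k1 : z ∈ Cyc X v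
  · left
    apply h.o
    · exact fun k => h1 (mem_trans k (mem_symm k1))
    · exact fun k => h2 (mem_trans k (mem_symm k1))
  · by_cases k2 : z ∈ Cyc X v'
    · left
      apply h.o
      · exact fun k => h3 (mem_trans k (mem_symm k2))
      · exact fun k => h4 (mem_trans k (mem_symm k2))
    · exact Or.inr (h'.o z k1 k2)

/-- the sign of a swap -/
theorem sgn [Fintype Ω] [DecidableEq Ω] (h : IsSw X ω ω' t) {N : ℕ} (hN : X ^ (2 * N + 1) = 1)
    (hn : ω' ∉ Cyc X ω) : sign t = -1 := by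
  have h0 : ∀ z, t z = z ↔ z ∉ Cyc X ω ∪ Cyc X ω' := by
    intro z
    constructor
    · rintro hz (⟨j, rfl⟩ | ⟨j, rfl⟩)
      · rw [h.l] at hz
        exact hn (mem_symm ((zpow_mem j).1 (hz ▸ (zpow_mem j).2 (mem_self ω))) |> mem_symm)
      · rw [h.r] at hz
        exact hn ((zpow_mem j).1 (hz ▸ (zpow_mem j).2 (mem_self ω)))
    · intro hz
      exact h.o z (fun k => hz (Or.inl k)) (fun k => hz (Or.inr k))
  have hp : per X ω = per X ω' := by
    have := per_map h.comm ω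
    rwa [h.l0] at this
  have h1 : t.support.card = 2 * per X ω := by
    have h2 : (t.support : Set Ω) = Cyc X ω ∪ Cyc X ω' := by
      ext z
      rw [Finset.mem_coe, Perm.mem_support, Ne, h0, not_not]
    rw [← Set.ncard_coe_finset, h2, Set.ncard_union_eq _ (Set.toFinite _) (Set.toFinite _), ncard_cyc, ncard_cyc, ← hp]
    · ring
    · rw [Set.disjoint_left]
      intro z k1 k2
      exact hn (mem_trans k1 (mem_symm k2))
  rw [Perm.sign_of_pow_two_eq_one (by rw [pow_two, h.sq]), Perm.card_fixedPoints, Nat.sub_sub_self t.sum_cycleType_le,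
    Perm.sum_cycleType, h1, Nat.mul_div_cancel_left _ (by norm_num), (per_odd hN ω).neg_one_pow]

end IsSw

section Ex

variable {Ω : Type*} {X : Perm Ω} {ω ω' : Ω}

open Classical in
/-- the swap as a function -/
noncomputable def swf (X : Perm Ω) (ω ω' z : Ω) : Ω :=
  if h : ∃ j : ℤ, z = (X ^ j) ω then (X ^ h.choose) ω'
  else if h : ∃ j : ℤ, z = (X ^ j) ω' then (X ^ h.choose) ω else z

theorem zpow_congr (hp : ∀ j : ℤ, (X ^ j) ω = ω ↔ (X ^ j) ω' = ω') {i j : ℤ} (h : (X ^ i) ω = (X ^ j) ω) :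
    (X ^ i) ω' = (X ^ j) ω' := by
  have h1 : (X ^ (-j + i)) ω = ω := by
    rw [← zpow_zpow, h, zpow_zpow, neg_add_cancel, zpow_zero, Perm.one_apply]
  have h2 := (hp _).1 h1
  rw [← zpow_zpow] at h2
  have h3 := congrArg (X ^ j) h2
  rwa [zpow_zpow, add_neg_cancel, zpow_zero, Perm.one_apply] at h3

theorem swf_l (hp : ∀ j : ℤ, (X ^ j) ω = ω ↔ (X ^ j) ω' = ω') (j : ℤ) : swf X ω ω' ((X ^ j) ω) = (X ^ j) ω' := by
  have h : ∃ i : ℤ, (X ^ j) ω = (X ^ i) ω := ⟨j, rfl⟩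
  rw [swf, dif_pos h]
  exact (zpow_congr hp h.choose_spec).symm

theorem swf_r (hp : ∀ j : ℤ, (X ^ j) ω = ω ↔ (X ^ j) ω' = ω') (hn : ω' ∉ Cyc X ω) (j : ℤ) :
    swf X ω ω' ((X ^ j) ω') = (X ^ j) ω := by
  have h0 : ¬ ∃ i : ℤ, (X ^ j) ω' = (X ^ i) ω := fun h => hn ((zpow_mem j).1 h)
  have h : ∃ i : ℤ, (X ^ j) ω' = (X ^ i) ω' := ⟨j, rfl⟩
  rw [swf, dif_neg h0, dif_pos h]
  exact (zpow_congr (fun j => (hp j).symm) h.choose_spec).symm

theorem swf_o {z : Ω} (h1 : z ∉ Cyc X ω) (h2 : z ∉ Cyc X ω') : swf X ω ω' z = z := by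
  have h1' : ¬ ∃ i : ℤ, z = (X ^ i) ω := h1
  have h2' : ¬ ∃ i : ℤ, z = (X ^ i) ω' := h2
  rw [swf, dif_neg h1', dif_neg h2']

/-- existence of swaps -/
theorem exists_sw (hp : per X ω = per X ω') (hn : ω' ∉ Cyc X ω) : ∃ t : Perm Ω, IsSw X ω ω' t := by
  rw [per_eq_iff] at hp
  have hi : Function.Involutive (swf X ω ω') := by
    intro z
    by_cases h1 : z ∈ Cyc X ω
    · obtain ⟨j, rfl⟩ := h1
      rw [swf_l hp, swf_r hp hn]
    · by_cases h2 : z ∈ Cyc X ω'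
      · obtain ⟨j, rfl⟩ := h2
        rw [swf_r hp hn, swf_l hp]
      · rw [swf_o h1 h2, swf_o h1 h2]
  exact ⟨hi.toPerm _, fun j => swf_l hp j, fun j => swf_r hp hn j, fun z h1 h2 => swf_o h1 h2⟩

end Ex

end Cfsg.Agent.H263.KS
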