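import Cfsg.Agent.H613.KS.Defs
import Cfsg.Agent.H263.KS.Sw

/-!
# S4577, row `A_n`: no configuration in the alternating groups (helper263)

`D` acts on the cycles of `x`. A 2-element of `C(x)` of order 4 is odd. Hence the orbits of `D` on the cycles have
length at most two, and the moved cycles in different orbits have different lengths. Therefore the points with a
given stabilizer `K < D` are the points of two cycles of `x`, and a 5-element which normalises `D` normalises `K`.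
-/

set_option autoImplicit false
set_option linter.unusedSectionVars false

open Equiv Equiv.Perm Cfsg Cfsg.Agent.H613.KS

namespace Cfsg.Agent.H263.KS

/-- the configuration in terms of permutations -/
structure Dat {Ω : Type*} [Fintype Ω] [DecidableEq Ω] (D : Subgroup (Perm Ω)) (X Y : Perm Ω) : Prop where
  card : Nat.card D = 16
  sq : ∀ d ∈ D, d * d = 1
  sgn : ∀ d ∈ D, sign d = 1
  comm : ∀ d ∈ D, d * X = X * d
  odd : ∃ N : ℕ, X ^ (2 * N + 1) = 1
  four : ∀ g : Perm Ω, sign g = 1 → g * X = X * g → g * g * (g * g) = 1 → g * g = 1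
  max : ∀ g : Perm Ω, sign g = 1 → g * X = X * g → g * g = 1 → (∀ d ∈ D, g * d = d * g) → g ∈ D
  norm : ∀ d : Perm Ω, Y * d * Y⁻¹ ∈ D ↔ d ∈ D
  irr : ∀ A : Subgroup (Perm Ω), A ≤ D → (∀ a ∈ A, Y * a * Y⁻¹ ∈ A) → A = ⊥ ∨ A = D

namespace Dat

variable {Ω : Type*} [Fintype Ω] [DecidableEq Ω] {D : Subgroup (Perm Ω)} {X Y : Perm Ω} (h : Dat D X Y)
include h

theorem dcomm {d e : Perm Ω} (hd : d ∈ D) (he : e ∈ D) : d * e = e * d := by
  have h1 := h.sq _ (D.mul_mem hd he)
  have h2 := h.sq d hd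
  have h3 := h.sq e he
  calc d * e = d * ((d * e) * (d * e)) * e := by rw [h1, mul_one]
    _ = (d * d) * (e * d) * (e * e) := by group
    _ = e * d := by rw [h2, h3, one_mul, mul_one]

theorem dd {d : Perm Ω} (hd : d ∈ D) (z : Ω) : d (d z) = z := by
  rw [← Perm.mul_apply, h.sq d hd, Perm.one_apply]

theorem ac {d e : Perm Ω} (hd : d ∈ D) (he : e ∈ D) (z : Ω) : d (e z) = e (d z) := by
  rw [← Perm.mul_apply, h.dcomm hd he, Perm.mul_apply]

/-- a cycle fixed by `d` is fixed pointwise -/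
theorem fix {d : Perm Ω} (hd : d ∈ D) {ω : Ω} (hω : d ω ∈ Cyc X ω) : d ω = ω := by
  obtain ⟨N, hN⟩ := h.odd
  obtain ⟨j, hj⟩ := hω
  have h1 : (X ^ (j + j)) ω = ω := by
    rw [← zpow_zpow, ← hj, ← zcomm (h.comm d hd), ← hj, h.dd hd]
  rw [zpow_eq_iff] at h1
  have h2 : (X ^ ((2 * N + 1 : ℕ) : ℤ)) ω = ω := by rw [zpow_natCast, hN, Perm.one_apply]
  rw [zpow_eq_iff] at h2
  rw [hj, zpow_eq_iff]
  have h3 : j = j * ((2 * N + 1 : ℕ) : ℤ) - (j + j) * N := by push_cast; ring
  rw [h3]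
  exact dvd_sub (h2.mul_left _) (h1.mul_right _)

/-- fixed points of a cycle -/
theorem fixc {d : Perm Ω} (hd : d ∈ D) {ω z : Ω} (hω : d ω = ω) (hz : z ∈ Cyc X ω) : d z = z := by
  obtain ⟨j, rfl⟩ := hz
  rw [zcomm (h.comm d hd), hω]

theorem fixo {d e : Perm Ω} (hd : d ∈ D) (he : e ∈ D) {ω : Ω} (hω : d ω = ω) : d (e ω) = e ω := by
  rw [h.ac hd he, hω]

theorem per_d {d : Perm Ω} (hd : d ∈ D) (ω : Ω) : per X ω = per X (d ω) := per_map (h.comm d hd) ω

theorem nm {d : Perm Ω} (hd : d ∈ D) {ω : Ω} (hω : d ω ≠ ω) : d ω ∉ Cyc X ω := fun k => hω (h.fix hd k)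

/-- a nontrivial element moves a point -/
theorem exists_moved {e : Perm Ω} (he1 : e ≠ 1) : ∃ v, e v ≠ v := by
  by_contra hc
  push Not at hc
  exact he1 (Perm.ext hc)

/-- the basic contradiction -/
theorem no4 {t b s : Perm Ω} (ht : sign t = -1) (hb : sign b = 1) (hs : sign s = -1) (tX : t * X = X * t)
    (bX : b * X = X * b) (sX : s * X = X * s) (t2 : t * t = 1) (b2 : b * b = 1) (s2 : s * s = 1)
    (st : s * t = t * s) (sb : s * b = b * s) (tb : t * (b * t * b) = b * t * b * t)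
    (hne : t * (b * t * b) ≠ 1) : False := by
  have e1 : t * b * s * (t * b * s) = t * (b * t * b) := by
    calc t * b * s * (t * b * s) = t * b * (s * t) * b * s := by group
      _ = t * b * t * (s * b) * s := by rw [st]; group
      _ = t * (b * t * b) * (s * s) := by rw [sb]; group
      _ = t * (b * t * b) := by rw [s2, mul_one]
  refine hne (e1 ▸ h.four (t * b * s) ?_ ?_ ?_)
  · rw [Perm.sign_mul, Perm.sign_mul, ht, hb, hs]
    decide
  · have c1 : Commute t X := tX
    have c2 : Commute b X := bX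
    have c3 : Commute s X := sX
    exact ((c1.mul_left c2).mul_left c3).eq
  · rw [e1]
    calc t * (b * t * b) * (t * (b * t * b)) = t * (b * t * b * t) * (b * t * b) := by group
      _ = t * (t * (b * t * b)) * (b * t * b) := by rw [tb]
      _ = (t * t) * (b * t * (b * b) * t * b) := by group
      _ = 1 := by rw [t2, b2, mul_one, one_mul, mul_assoc b t t, t2, mul_one, b2]

/-- the orbits of `D` on the cycles have length at most two -/
theorem two {a b : Perm Ω} (ha : a ∈ D) (hb : b ∈ D) {ω : Ω} (hω : a ω ≠ ω) (hω' : b ω ≠ ω) : a (b ω) = ω := by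
  by_contra hab
  obtain ⟨N, hN⟩ := h.odd
  have hab' : b ω ≠ a ω := fun k => hab (by rw [k, h.dd ha])
  -- the four cycles
  have n1 := h.nm ha hω
  have n2 := h.nm hb hω'
  have n3 : b ω ∉ Cyc X (a ω) := by
    intro k
    have k1 := map_mem (h.comm a ha) k
    rw [h.dd ha] at k1
    have k2 := h.fix (D.mul_mem ha hb) (ω := ω) (by rwa [Perm.mul_apply])
    exact hab (by rwa [Perm.mul_apply] at k2)
  obtain ⟨t, ht⟩ := exists_sw (X := X) (h.per_d ha ω) n1
  have hu := ht.conj (h.comm b hb)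
  have hbi : b⁻¹ = b := inv_eq_of_mul_eq_one_left (h.sq b hb)
  rw [hbi] at hu
  have n4 : b (a ω) ∉ Cyc X ω := by
    intro k
    have k2 := h.fix (D.mul_mem hb ha) (ω := ω) (by rwa [Perm.mul_apply])
    rw [Perm.mul_apply, h.ac hb ha] at k2
    exact hab k2
  have n5 : b (a ω) ∉ Cyc X (a ω) := by
    intro k
    have k2 := h.fix hb k
    rw [h.ac hb ha] at k2
    exact hω' (a.injective k2)
  have hdis := ht.disj hu n2 n3 n4 n5
  -- a moved point outside
  have key : ∃ v, (∃ d ∈ D, d v ≠ v) ∧ v ∉ Cyc X ω ∧ v ∉ Cyc X (a ω) ∧ v ∉ Cyc X (b ω) ∧ v ∉ Cyc X (a (b ω)) := by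
    by_cases hall : ∀ d : D, ∃ i : Fin 4, (d : Perm Ω) ω ∈ Cyc X (![ω, a ω, b ω, a (b ω)] i)
    · choose f hf using hall
      have : Finite D := Nat.finite_of_card_ne_zero (by rw [h.card]; omega)
      have : Fintype D := Fintype.ofFinite D
      obtain ⟨d, e, hde, hfe⟩ := Fintype.exists_ne_map_eq_of_card_lt f (by
        rw [Fintype.card_fin, ← Nat.card_eq_fintype_card, h.card]; norm_num)
      have k1 := hf d
      rw [hfe] at k1
      have k3 : (e : Perm Ω) ω ∈ Cyc X ((d : Perm Ω) ω) := mem_trans (mem_symm k1) (hf e)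
      have k4 := map_mem (h.comm d d.2) k3
      rw [h.dd d.2] at k4
      have k5 := h.fix (D.mul_mem d.2 e.2) (ω := ω) (by rwa [Perm.mul_apply])
      have k6 : (d : Perm Ω) * e ≠ 1 := by
        intro k
        apply hde
        apply Subtype.ext
        calc (d : Perm Ω) = d * (e * e) := by rw [h.sq e e.2, mul_one]
          _ = (d * e) * e := by group
          _ = e := by rw [k, one_mul]
      obtain ⟨v, hv⟩ := h.exists_moved k6
      have hde := D.mul_mem d.2 e.2
      refine ⟨v, ⟨_, hde, hv⟩, fun k => hv (h.fixc hde k5 k), fun k => hv (h.fixc hde (h.fixo hde ha k5) k),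
        fun k => hv (h.fixc hde (h.fixo hde hb k5) k), fun k => hv (h.fixc hde ?_ k)⟩
      exact h.fixo hde ha (h.fixo hde hb k5)
    · push Not at hall
      obtain ⟨d, hd⟩ := hall
      refine ⟨(d : Perm Ω) ω, ⟨a, ha, ?_⟩, hd 0, hd 1, hd 2, hd 3⟩
      rw [h.ac ha d.2]
      exact fun k => hω ((d : Perm Ω).injective k)
  obtain ⟨v, ⟨d, hd, hdv⟩, m1, m2, m3, m4⟩ := key
  -- the odd swap `s`
  obtain ⟨v', s, hs, hvn, hsb, m5, m6⟩ : ∃ (v' : Ω) (s : Perm Ω), IsSw X v v' s ∧ v' ∉ Cyc X v ∧ s * b = b * s ∧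
      v' ∉ Cyc X ω ∧ v' ∉ Cyc X (a ω) := by
    by_cases hbv : b v = v
    · obtain ⟨s, hs⟩ := exists_sw (X := X) (h.per_d hd v) (h.nm hd hdv)
      refine ⟨d v, s, hs, h.nm hd hdv, (hs.comm_of (h.comm b hb) (Or.inl ⟨hbv, h.fixo hb hd hbv⟩)).symm, ?_, ?_⟩
      · intro k
        exact hω' (h.fixc hb (h.fixo hb hd hbv) (mem_symm k))
      · intro k
        have k1 := h.fixc hb (h.fixo hb hd hbv) (mem_symm k)
        rw [h.ac hb ha] at k1
        exact hω' (a.injective k1)
    · obtain ⟨s, hs⟩ := exists_sw (X := X) (h.per_d hb v) (h.nm hb hbv)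
      refine ⟨b v, s, hs, h.nm hb hbv, (hs.comm_of (h.comm b hb) (Or.inr ⟨rfl, h.dd hb v⟩)).symm, ?_, ?_⟩
      · intro k
        apply m3
        have k1 := map_mem (h.comm b hb) k
        rwa [h.dd hb] at k1
      · intro k
        apply m4
        have k1 := map_mem (h.comm b hb) k
        rwa [h.dd hb, h.ac hb ha] at k1
  refine h.no4 (ht.sgn hN n1) (h.sgn b hb) (hs.sgn hN hvn) ht.comm (h.comm b hb) hs.comm ht.sq (h.sq b hb) hs.sq ?_ hsb
    hdis.commute.eq ?_
  · exact (ht.disj hs m1 m2 m5 m6).commute.eq.symm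
  · intro k
    have k1 := congrArg (fun g : Perm Ω => g ω) k
    simp only [Perm.mul_apply, Perm.one_apply] at k1
    have k2 : b (t (b ω)) = ω := by
      have := hu.o ω (fun k => n2 (mem_symm k)) (fun k => n4 (mem_symm k))
      simpa only [Perm.mul_apply] using this
    rw [k2, ht.l0] at k1
    exact hω k1

/-- two elements -/
theorem exists_fix (ω ω' : Ω) : ∃ e ∈ D, e ≠ 1 ∧ e ω = ω ∧ e ω' = ω' := by
  classical
  have : Finite D := Nat.finite_of_card_ne_zero (by rw [h.card]; omega)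
  have : Fintype D := Fintype.ofFinite D
  obtain ⟨d, e, hde, hfe⟩ := Fintype.exists_ne_map_eq_of_card_lt
    (fun d : D => (decide ((d : Perm Ω) ω = ω), decide ((d : Perm Ω) ω' = ω'))) (by
      rw [← Nat.card_eq_fintype_card (α := D), h.card]
      simp)
  rw [Prod.mk.injEq, decide_eq_decide, decide_eq_decide] at hfe
  have key : ∀ z : Ω, ((d : Perm Ω) z = z ↔ (e : Perm Ω) z = z) → ((d : Perm Ω) * e) z = z := by
    intro z hz
    rw [Perm.mul_apply]
    by_cases k : (e : Perm Ω) z = z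
    · rw [k, hz.2 k]
    · exact h.two d.2 e.2 (fun k' => k (hz.1 k')) k
  refine ⟨d * e, D.mul_mem d.2 e.2, ?_, key ω hfe.1, key ω' hfe.2⟩
  intro k
  apply hde
  apply Subtype.ext
  calc (d : Perm Ω) = d * (e * e) := by rw [h.sq e e.2, mul_one]
    _ = (d * e) * e := by group
    _ = e := by rw [k, one_mul]

/-- an element moving both points -/
theorem exists_both {a b : Perm Ω} (ha : a ∈ D) (hb : b ∈ D) {ω ω' : Ω} (hω : a ω ≠ ω) (hω' : b ω' ≠ ω') :
    ∃ d ∈ D, d ω ≠ ω ∧ d ω' ≠ ω' := by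
  by_cases h1 : a ω' = ω'
  · by_cases h2 : b ω = ω
    · refine ⟨a * b, D.mul_mem ha hb, ?_, ?_⟩
      · rwa [Perm.mul_apply, h2]
      · rw [h.dcomm ha hb, Perm.mul_apply, h1]
        exact hω'
    · exact ⟨b, hb, h2, hω'⟩
  · exact ⟨a, ha, hω, h1⟩

/-- different orbits of moved cycles have different lengths -/
theorem len {a b : Perm Ω} (ha : a ∈ D) (hb : b ∈ D) {ω ω' : Ω} (hω : a ω ≠ ω) (hω' : b ω' ≠ ω')
    (hp : per X ω = per X ω') : ω' ∈ Cyc X ω ∨ ω' ∈ Cyc X (a ω) := by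
  by_contra hc
  push Not at hc
  obtain ⟨c1, c2⟩ := hc
  obtain ⟨N, hN⟩ := h.odd
  obtain ⟨d, hd, k1, k2⟩ := h.exists_both ha hb hω hω'
  have hda : a ω = d ω := by
    have := h.two hd ha k1 hω
    rw [← h.dd hd (a ω), this]
  rw [hda] at c2
  have n1 := h.nm hd k1
  have n2 := h.nm hd k2
  have c3 : d ω' ∉ Cyc X ω := by
    intro k
    apply c2
    have k3 := map_mem (h.comm d hd) k
    rwa [h.dd hd] at k3
  have c4 : d ω' ∉ Cyc X (d ω) := by
    intro k
    apply c1
    have k3 := map_mem (h.comm d hd) k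
    rwa [h.dd hd, h.dd hd] at k3
  obtain ⟨t, ht⟩ := exists_sw (X := X) (h.per_d hd ω) n1
  obtain ⟨s1, hs1⟩ := exists_sw (X := X) hp c1
  obtain ⟨s2, hs2⟩ := exists_sw (X := X) (ω := d ω) (ω' := d ω') (by rw [← h.per_d hd, ← h.per_d hd, hp]) c4
  have hd12 : Perm.Disjoint s1 s2 := hs1.disj hs2 n1 (fun k => c2 (mem_symm k)) c3 n2
  have bX : s1 * s2 * X = X * (s1 * s2) := by
    have c1 : Commute s1 X := hs1.comm
    have c2 : Commute s2 X := hs2.comm
    exact (c1.mul_left c2).eq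
  have b2 : s1 * s2 * (s1 * s2) = 1 := by
    calc s1 * s2 * (s1 * s2) = s1 * (s2 * s1) * s2 := by group
      _ = (s1 * s1) * (s2 * s2) := by rw [← hd12.commute.eq]; group
      _ = 1 := by rw [hs1.sq, hs2.sq, one_mul]
  have hbi : (s1 * s2)⁻¹ = s1 * s2 := inv_eq_of_mul_eq_one_left b2
  have hu := ht.conj bX
  rw [hbi] at hu
  have b1 : (s1 * s2) ω = ω' := by
    rw [Perm.mul_apply, hs2.o ω (fun k => n1 (mem_symm k)) (fun k => c3 (mem_symm k)), hs1.l0]
  have b3 : (s1 * s2) (d ω) = d ω' := by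
    rw [Perm.mul_apply, hs2.l0, hs1.o _ c3 n2]
  rw [b1, b3] at hu
  have hdis := ht.disj hu c1 c2 c3 c4
  obtain ⟨e, he, he1, heω, heω'⟩ := h.exists_fix ω ω'
  obtain ⟨v, hv⟩ := h.exists_moved he1
  obtain ⟨s, hs⟩ := exists_sw (X := X) (h.per_d he v) (h.nm he hv)
  have out : ∀ z, e z = z → v ∉ Cyc X z ∧ e v ∉ Cyc X z := by
    intro z hz
    refine ⟨fun k => hv (h.fixc he hz k), fun k => ?_⟩
    have := h.fixc he hz k
    exact hv (e.injective this)
  have o1 := out ω heω
  have o2 := out ω' heω'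
  have o3 := out (d ω) (h.fixo he hd heω)
  have o4 := out (d ω') (h.fixo he hd heω')
  have q1 : s1 * s = s * s1 := (hs1.disj hs o1.1 o2.1 o1.2 o2.2).commute.eq
  have q2 : s2 * s = s * s2 := (hs2.disj hs o3.1 o4.1 o3.2 o4.2).commute.eq
  refine h.no4 (ht.sgn hN n1) ?_ (hs.sgn hN (h.nm he hv)) ht.comm bX hs.comm ht.sq b2 hs.sq ?_ ?_ hdis.commute.eq ?_
  · rw [Perm.sign_mul, hs1.sgn hN c1, hs2.sgn hN c4]
    decide
  · exact (ht.disj hs o1.1 o3.1 o1.2 o3.2).commute.eq.symm
  · have q3 : Commute s s1 := q1.symm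
    have q4 : Commute s s2 := q2.symm
    exact (q3.mul_right q4).eq
  · intro k
    have k1' := congrArg (fun g : Perm Ω => g ω) k
    rw [Perm.mul_apply, hu.o ω (fun k => c1 (mem_symm k)) (fun k => c3 (mem_symm k)), ht.l0, Perm.one_apply] at k1'
    exact k1 k1'

/-- a swap of `ω` and `a ω` commutes with `D` -/
theorem sw_comm {a : Perm Ω} (ha : a ∈ D) {ω : Ω} (hω : a ω ≠ ω) {t : Perm Ω} (ht : IsSw X ω (a ω) t) {d : Perm Ω}
    (hd : d ∈ D) : t * d = d * t := by
  refine (ht.comm_of (h.comm d hd) ?_).symm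
  by_cases k : d ω = ω
  · exact Or.inl ⟨k, h.fixo hd ha k⟩
  · have h1 := h.two hd ha k hω
    have h2 := congrArg d h1
    rw [h.dd hd] at h2
    exact Or.inr ⟨h2.symm, h1⟩

/-- moved points with the same stabilizer are in the same orbit -/
theorem stab {a : Perm Ω} (ha : a ∈ D) {ω ω' : Ω} (hω : a ω ≠ ω) (hK : ∀ d ∈ D, d ω = ω ↔ d ω' = ω') :
    ω' ∈ Cyc X ω ∨ ω' ∈ Cyc X (a ω) := by
  by_contra hc
  push Not at hc
  obtain ⟨c1, c2⟩ := hc
  obtain ⟨N, hN⟩ := h.odd
  obtain ⟨e, he, he1, heω, -⟩ := h.exists_fix ω ω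
  have heω' := (hK e he).1 heω
  obtain ⟨v, hv⟩ := h.exists_moved he1
  obtain ⟨s, hs⟩ := exists_sw (X := X) (h.per_d he v) (h.nm he hv)
  obtain ⟨t, ht⟩ := exists_sw (X := X) (h.per_d ha ω) (h.nm ha hω)
  have out : ∀ z, e z = z → v ∉ Cyc X z ∧ e v ∉ Cyc X z := by
    intro z hz
    refine ⟨fun k => hv (h.fixc he hz k), fun k => ?_⟩
    have := h.fixc he hz k
    exact hv (e.injective this)
  have o1 := out ω heω
  have o2 := out ω' heω'
  have o3 := out (a ω) (h.fixo he ha heω)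
  have q : t * s = s * t := (ht.disj hs o1.1 o3.1 o1.2 o3.2).commute.eq
  have hu : t * s ∈ D := by
    apply h.max
    · rw [Perm.sign_mul, ht.sgn hN (h.nm ha hω), hs.sgn hN (h.nm he hv)]
      decide
    · have q1 : Commute t X := ht.comm
      have q2 : Commute s X := hs.comm
      exact (q1.mul_left q2).eq
    · calc t * s * (t * s) = t * (s * t) * s := by group
        _ = (t * t) * (s * s) := by rw [← q]; group
        _ = 1 := by rw [ht.sq, hs.sq, one_mul]
    · intro d hd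
      have q1 : Commute t d := h.sw_comm ha hω ht hd
      have q2 : Commute s d := h.sw_comm he hv hs hd
      exact (q1.mul_left q2).eq
  have k1 : (t * s) ω' = ω' := by
    rw [Perm.mul_apply, hs.o ω' (fun k => o2.1 (mem_symm k)) (fun k => o2.2 (mem_symm k)), ht.o ω' c1 c2]
  have k2 := (hK _ hu).2 k1
  rw [Perm.mul_apply, hs.o ω (fun k => o1.1 (mem_symm k)) (fun k => o1.2 (mem_symm k)), ht.l0] at k2
  exact hω k2

/-- the set of points with the stabilizer of `ω` -/
theorem set_eq {a : Perm Ω} (ha : a ∈ D) {ω : Ω} (hω : a ω ≠ ω) :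
    {z | ∀ d ∈ D, d ω = ω ↔ d z = z} = Cyc X ω ∪ Cyc X (a ω) := by
  ext z
  constructor
  · intro hz
    exact h.stab ha hω hz
  · have key : ∀ w, (∀ d ∈ D, d ω = ω ↔ d w = w) → ∀ z ∈ Cyc X w, ∀ d ∈ D, d ω = ω ↔ d z = z := by
      intro w hw z hz d hd
      rw [hw d hd]
      exact ⟨fun k => h.fixc hd k hz, fun k => h.fixc hd k (mem_symm hz)⟩
    rintro (hz | hz)
    · exact key ω (fun d _ => Iff.rfl) z hz
    · refine key (a ω) (fun d hd => ⟨fun k => h.fixo hd ha k, fun k => ?_⟩) z hz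
      rw [h.ac hd ha] at k
      exact a.injective k

theorem ncard_eq {a : Perm Ω} (ha : a ∈ D) {ω : Ω} (hω : a ω ≠ ω) :
    {z | ∀ d ∈ D, d ω = ω ↔ d z = z}.ncard = 2 * per X ω := by
  rw [h.set_eq ha hω, Set.ncard_union_eq _ (Set.toFinite _) (Set.toFinite _), ncard_cyc, ncard_cyc, ← h.per_d ha]
  · ring
  · rw [Set.disjoint_left]
    intro z k1 k2
    exact h.nm ha hω (mem_trans k1 (mem_symm k2))

/-- **no configuration** -/
theorem false : False := by
  obtain ⟨ω₀, hω₀⟩ : ∃ a ∈ D, a ≠ 1 := by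
    have h1 : D ≠ ⊥ := by
      intro h1
      have := h.card
      rw [h1, Subgroup.card_bot] at this
      omega
    obtain ⟨a, ha⟩ := Subgroup.ne_bot_iff_exists_ne_one.1 h1
    exact ⟨a, a.2, fun h => ha (Subtype.ext h)⟩
  obtain ⟨ha, ha1⟩ := hω₀
  set a := ω₀
  obtain ⟨ω, hω⟩ := h.exists_moved ha1
  have hYa : Y * a * Y⁻¹ ∈ D := (h.norm a).2 ha
  have hYω : (Y * a * Y⁻¹) (Y ω) ≠ Y ω := by
    rw [Perm.mul_apply, Perm.mul_apply, inv_self]
    exact fun k => hω (Y.injective k)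
  have hconj : ∀ d ∈ D, Y⁻¹ * d * Y ∈ D := by
    intro d hd
    rw [← h.norm]
    convert hd using 1
    group
  have him : {z | ∀ d ∈ D, d (Y ω) = Y ω ↔ d z = z} = Y '' {z | ∀ d ∈ D, d ω = ω ↔ d z = z} := by
    have key : ∀ d : Perm Ω, ∀ z : Ω, d (Y z) = Y z ↔ (Y⁻¹ * d * Y) z = z := by
      intro d z
      rw [Perm.mul_apply, Perm.mul_apply]
      exact ⟨fun k => by rw [k, inv_self], fun k => by rw [← self_inv Y (d (Y z)), k]⟩
    have key2 : ∀ d : Perm Ω, ∀ z : Ω, (Y * d * Y⁻¹) (Y z) = Y z ↔ d z = z := by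
      intro d z
      rw [Perm.mul_apply, Perm.mul_apply, inv_self]
      exact ⟨fun k => Y.injective k, fun k => by rw [k]⟩
    ext z
    constructor
    · intro hz
      refine ⟨Y⁻¹ z, fun d hd => ?_, self_inv Y z⟩
      have h1 := hz _ ((h.norm d).2 hd)
      rw [key2] at h1
      rw [h1]
      nth_rewrite 1 [← self_inv Y z]
      nth_rewrite 2 [← self_inv Y z]
      rw [key2]
    · rintro ⟨z, hz, rfl⟩ d hd
      rw [key, key]
      exact hz _ (hconj d hd)
  have hper : per X ω = per X (Y ω) := by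
    have h1 := h.ncard_eq ha hω
    have h2 := h.ncard_eq hYa hYω
    rw [him, Set.ncard_image_of_injective _ Y.injective, h1] at h2
    omega
  have hmem : Y ω ∈ {z | ∀ d ∈ D, d ω = ω ↔ d z = z} := by
    rw [h.set_eq ha hω]
    exact h.len ha hYa hω hYω hper
  have hK := h.irr (D ⊓ MulAction.stabilizer (Perm Ω) ω) inf_le_left (by
    rintro d ⟨hd, hdω⟩
    have hdω' : d ω = ω := hdω
    have h1 := (h.norm d).2 hd
    refine ⟨h1, ?_⟩
    change (Y * d * Y⁻¹) ω = ω
    rw [hmem _ h1, Perm.mul_apply, Perm.mul_apply, inv_self, hdω'])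
  rcases hK with hK | hK
  · obtain ⟨e, he, he1, heω, -⟩ := h.exists_fix ω ω
    have : e ∈ D ⊓ MulAction.stabilizer (Perm Ω) ω := ⟨he, heω⟩
    rw [hK, Subgroup.mem_bot] at this
    exact he1 this
  · have : a ∈ D ⊓ MulAction.stabilizer (Perm Ω) ω := by rw [hK]; exact ha
    exact hω this.2

end Dat

section Main

variable {n : ℕ}

/-- **No configuration in the alternating groups.** -/
theorem noCfg_alt (n : ℕ) : NoCfg (alternatingGroup (Fin n)) := by
  intro D x hc
  obtain ⟨y, hy⟩ := hc.five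
  set ι : alternatingGroup (Fin n) →* Perm (Fin n) := (alternatingGroup (Fin n)).subtype with hι
  have hinj : Function.Injective ι := Subtype.val_injective
  have hD : ∀ g : Perm (Fin n), ∀ hg : sign g = 1,
      g ∈ D.map ι ↔ (⟨g, Perm.mem_alternatingGroup.2 hg⟩ : alternatingGroup (Fin n)) ∈ D := by
    intro g hg
    constructor
    · rintro ⟨d, hd, rfl⟩
      exact hd
    · intro h
      exact ⟨_, h, rfl⟩
  obtain ⟨N, hN⟩ := hc.odd
  have hcard : Nat.card (D.map ι) = 16 := by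
    rw [← Nat.card_congr (D.equivMapOfInjective ι hinj).toEquiv, hc.e16.card]
  -- a 2-element of `C(x)` is an involution or `1`
  have conj : ∀ Q : Subgroup (alternatingGroup (Fin n)), IsPGroup 2 Q → (∀ q ∈ Q, q * x = x * q) →
      Nat.card Q ≤ 16 ∧ ∀ q ∈ Q, q * q = 1 := by
    intro Q h1 h2
    obtain ⟨c, -, hcQ⟩ := hc.syl Q h1 h2
    constructor
    · rw [← hc.e16.card]
      have : Finite D := inferInstance
      refine Nat.card_le_card_of_injective (fun q : Q => (⟨c * q * c⁻¹, hcQ q q.2⟩ : D)) ?_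
      intro q q' hqq
      have := congrArg Subtype.val hqq
      simp only [mul_left_inj, mul_right_inj] at this
      exact Subtype.ext this
    · intro q hq
      have h3 := hc.e16.inv _ (hcQ q hq)
      have h4 : c * (q * q) * c⁻¹ = 1 := by
        rw [← h3]
        group
      exact conj_eq_one_iff.1 h4
  refine Dat.false (D := D.map ι) (X := ι x) (Y := ι y) ⟨hcard, ?_, ?_, ?_, ⟨N, ?_⟩, ?_, ?_, ?_, ?_⟩
  · rintro _ ⟨d, hd, rfl⟩
    rw [← map_mul, hc.e16.inv d hd, map_one]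
  · rintro _ ⟨d, hd, rfl⟩
    exact Perm.mem_alternatingGroup.1 d.2
  · rintro _ ⟨d, hd, rfl⟩
    rw [← map_mul, hc.comm d hd, map_mul]
  · rw [← map_pow, ← hN, pow_orderOf_eq_one, map_one]
  · intro g h1 h2 h3
    set γ : alternatingGroup (Fin n) := ⟨g, Perm.mem_alternatingGroup.2 h1⟩ with hγ
    have h4 : γ ^ 4 = 1 := by
      apply Subtype.ext
      change g ^ 4 = 1
      rw [← h3, pow_succ, pow_succ, pow_two, mul_assoc, mul_assoc]
    have h5 := (conj (Subgroup.zpowers γ) (by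
      rintro ⟨_, k, rfl⟩
      refine ⟨2, Subtype.ext ?_⟩
      simp only [Subgroup.coe_pow, Subgroup.coe_one]
      have h4' : γ ^ 2 ^ 2 = 1 := h4
      rw [← zpow_natCast, ← zpow_mul, mul_comm, zpow_mul, zpow_natCast, h4', one_zpow]) (by
      rintro _ ⟨k, rfl⟩
      have h6 : Commute γ x := Subtype.ext h2
      exact (h6.zpow_left k).eq)).2 γ (Subgroup.mem_zpowers γ)
    exact congrArg Subtype.val h5
  · intro g h1 h2 h3 h4
    rw [hD g h1]
    set γ : alternatingGroup (Fin n) := ⟨g, Perm.mem_alternatingGroup.2 h1⟩ with hγ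
    have h5 : ∀ d ∈ D, γ * d = d * γ := fun d hd => Subtype.ext (h4 _ ⟨d, hd, rfl⟩)
    have hDp : IsPGroup 2 D := IsPGroup.of_card (n := 4) (by rw [hc.e16.card]; norm_num)
    have hγ2 : γ ^ 2 = 1 := Subtype.ext (by rw [pow_two]; exact h3)
    have hγp : IsPGroup 2 (Subgroup.zpowers γ) := by
      rintro ⟨_, k, rfl⟩
      refine ⟨1, Subtype.ext ?_⟩
      simp only [pow_one, Subgroup.coe_pow, Subgroup.coe_one]
      rw [← zpow_natCast, ← zpow_mul, mul_comm, zpow_mul]
      norm_cast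
      rw [hγ2, one_zpow]
    have hle : Subgroup.zpowers γ ≤ Subgroup.normalizer (D : Set (alternatingGroup (Fin n))) := by
      rw [Subgroup.zpowers_le, Subgroup.mem_normalizer_iff]
      intro d
      constructor
      · intro hd
        rw [h5 d hd, mul_assoc, mul_inv_cancel, mul_one]
        exact hd
      · intro hd
        have h6 := h5 _ hd
        have h7 : γ * d * γ⁻¹ = d := by
          have h8 : γ * (γ * d * γ⁻¹) * γ⁻¹ = γ * d * γ⁻¹ := by rw [h6]; group
          have h9 : γ * d * γ⁻¹ = γ * d * γ⁻¹ := rfl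
          exact mul_left_cancel (mul_right_cancel h8)
        rwa [h7] at hd
    have hQ := hγp.to_sup_of_normal_right' hDp hle
    have h6 := (conj _ hQ (by
      intro q hq
      have h7 : Subgroup.zpowers γ ⊔ D ≤ Subgroup.centralizer {x} := by
        rw [sup_le_iff, Subgroup.zpowers_le]
        constructor
        · rw [Subgroup.mem_centralizer_singleton_iff]
          exact Subtype.ext h2
        · intro d hd
          rw [Subgroup.mem_centralizer_singleton_iff]
          exact hc.comm d hd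
      exact Subgroup.mem_centralizer_singleton_iff.1 (h7 hq))).1
    rw [← hc.e16.card] at h6
    have h7 : D = Subgroup.zpowers γ ⊔ D := Subgroup.eq_of_le_of_card_ge le_sup_right h6
    rw [h7]
    exact le_sup_left (a := Subgroup.zpowers γ) (Subgroup.mem_zpowers γ)
  · intro d
    constructor
    · rintro ⟨e, he, hed⟩
      have h1 : ι (y⁻¹ * e * y) = d := by
        rw [map_mul, map_mul, hed, map_inv]
        group
      refine ⟨y⁻¹ * e * y, ?_, h1⟩
      rw [SetLike.mem_coe, ← hy.norm]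
      convert (SetLike.mem_coe.1 he) using 1
      group
    · rintro ⟨e, he, rfl⟩
      exact ⟨y * e * y⁻¹, (hy.norm e).2 he, by rw [map_mul, map_mul, map_inv]⟩
  · intro A hA hAy
    have h1 : (A.comap ι).map ι = A := by
      apply Subgroup.map_comap_eq_self
      rintro a ha
      obtain ⟨d, -, rfl⟩ := hA ha
      exact ⟨d, rfl⟩
    rcases hy.irr (A.comap ι) (fun a ha => by
      obtain ⟨d, hd, hda⟩ := hA ha
      rwa [← hinj hda]) (fun a ha => by
        rw [Subgroup.mem_comap, map_mul, map_mul, map_inv]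
        exact hAy _ ha) with h2 | h2
    · left
      rw [← h1, h2, Subgroup.map_bot]
    · right
      rw [← h1, h2]

/-- the row -/
theorem E_alt {n : ℕ} (_ : 5 ≤ n) : NoCfg (alternatingGroup (Fin n)) := noCfg_alt n

end Main

end Cfsg.Agent.H263.KS
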