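import Cfsg.Agent.H503.KKL.Weights

/-!
# S4577, classical rows: the weights of `D₀`, abstract part (helper263)

`C` elementary abelian of order 16, `τ` an automorphism of `C` of order a power of 5 acting irreducibly, `ρ : C →* A`
injective, `Y` induces `τ`, at most 7 weights: then the nontrivial weights form one orbit of length 5.
-/

set_option autoImplicit false
set_option linter.unusedSectionVars false

open Cfsg.Agent.H503.KKL

namespace Cfsg.Agent.H263.KS

section Core

variable {F : Type*} [Field F] {A : Type*} [Ring A] [Algebra F A] {C : Type*} [CommGroup C]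

theorem ch_assoc (χ ψ φ : C →* Fˣ) : χ * ψ * φ = χ * (ψ * φ) := by
  ext c
  exact congrArg Units.val (mul_assoc (χ c) (ψ c) (φ c))

theorem ch_comm (χ ψ : C →* Fˣ) : χ * ψ = ψ * χ := by
  ext c
  exact congrArg Units.val (mul_comm (χ c) (ψ c))

theorem ch_inv (χ ψ : C →* Fˣ) : χ * ψ⁻¹ * ψ = χ := by
  ext c
  exact congrArg Units.val (inv_mul_cancel_right (χ c) (ψ c))

theorem ch_one (χ : C →* Fˣ) : χ * 1 = χ := by
  ext c
  exact congrArg Units.val (mul_one (χ c))

/-- the action on the characters -/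
def U (τ : C ≃* C) (χ : C →* Fˣ) : C →* Fˣ := χ.comp τ.symm.toMonoidHom

theorem U_apply (τ : C ≃* C) (χ : C →* Fˣ) (c : C) : U τ χ c = χ (τ.symm c) := rfl

theorem U_mul (τ : C ≃* C) (χ ψ : C →* Fˣ) : U τ (χ * ψ) = U τ χ * U τ ψ := rfl

theorem U_one (τ : C ≃* C) : U (F := F) τ 1 = 1 := rfl

theorem U_surj (τ : C ≃* C) (χ : C →* Fˣ) : ∃ χ', U τ χ' = χ :=
  ⟨χ.comp τ.toMonoidHom, by ext c; simp [U_apply]⟩

theorem U_iter_mul (τ : C ≃* C) (k : ℕ) (χ ψ : C →* Fˣ) : (U τ)^[k] (χ * ψ) = (U τ)^[k] χ * (U τ)^[k] ψ := by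
  induction k with
  | zero => rfl
  | succ k ih => rw [Function.iterate_succ_apply', ih, U_mul, ← Function.iterate_succ_apply' (U τ),
      ← Function.iterate_succ_apply' (U τ)]

theorem U_iter_one (τ : C ≃* C) (k : ℕ) : (U (F := F) τ)^[k] 1 = 1 := by
  induction k with
  | zero => rfl
  | succ k ih => rw [Function.iterate_succ_apply', ih, U_one]

theorem U_iter (τ : C ≃* C) (k : ℕ) (χ : C →* Fˣ) (c : C) : (U τ)^[k] χ c = χ ((τ.symm ^ k) c) := by
  induction k generalizing χ with
  | zero => rfl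
  | succ k ih =>
    rw [Function.iterate_succ_apply, ih, U_apply, pow_succ']
    rfl

variable [Fintype C] (ρ : C →* A)

theorem idem_U (τ : C ≃* C) (Y : Aˣ) (hY : ∀ c, (Y : A) * ρ c = ρ (τ c) * (Y : A)) (χ : C →* Fˣ) :
    idem ρ (U τ χ) = (Y : A) * idem ρ χ * ((Y⁻¹ : Aˣ) : A) := by
  have h : (Y : A) * idem ρ χ = idem ρ (U τ χ) * (Y : A) := by
    unfold idem
    rw [mul_smul_comm, smul_mul_assoc]
    congr 1
    rw [Finset.mul_sum, Finset.sum_mul]
    refine Fintype.sum_equiv τ.toEquiv _ _ fun c => ?_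
    rw [mul_smul_comm, smul_mul_assoc, hY, U_apply]
    show _ = ((χ (τ.symm (τ c)) : Fˣ) : F) • _
    rw [τ.symm_apply_apply]
    rfl
  rw [h, mul_assoc, Units.mul_inv, mul_one]

theorem idem_U_iter (τ : C ≃* C) (Y : Aˣ) (hY : ∀ c, (Y : A) * ρ c = ρ (τ c) * (Y : A)) (χ : C →* Fˣ) (k : ℕ) :
    idem ρ ((U τ)^[k] χ) = ((Y ^ k : Aˣ) : A) * idem ρ χ * (((Y ^ k)⁻¹ : Aˣ) : A) := by
  induction k with
  | zero => simp
  | succ k ih =>
    rw [Function.iterate_succ_apply', idem_U ρ τ Y hY, ih, pow_succ' Y, mul_inv_rev, Units.val_mul, Units.val_mul]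
    simp only [mul_assoc]

theorem idem_U_ne (τ : C ≃* C) (Y : Aˣ) (hY : ∀ c, (Y : A) * ρ c = ρ (τ c) * (Y : A)) (χ : C →* Fˣ) :
    idem ρ (U τ χ) ≠ 0 ↔ idem ρ χ ≠ 0 := by
  rw [idem_U ρ τ Y hY, Ne, Ne, not_iff_not]
  rw [Units.mul_left_eq_zero, Units.mul_right_eq_zero]

theorem idem_U_iter_ne (τ : C ≃* C) (Y : Aˣ) (hY : ∀ c, (Y : A) * ρ c = ρ (τ c) * (Y : A)) (χ : C →* Fˣ) (k : ℕ) :
    idem ρ ((U τ)^[k] χ) ≠ 0 ↔ idem ρ χ ≠ 0 := by
  induction k with
  | zero => rfl
  | succ k ih => rw [Function.iterate_succ_apply', idem_U_ne ρ τ Y hY, ih]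

/-- the spectral decomposition -/
theorem rho_eq (hC : ∀ c : C, c * c = 1) (hn : (Fintype.card C : F) ≠ 0) (h2 : (2 : F) ≠ 0) [Fintype (C →* Fˣ)]
    (d : C) : ρ d = ∑ χ : C →* Fˣ, ((χ d : Fˣ) : F) • idem ρ χ := by
  calc ρ d = ρ d * ∑ χ : C →* Fˣ, idem ρ χ := by rw [sum_idem ρ hC hn h2, mul_one]
    _ = _ := by
      rw [Finset.mul_sum]
      exact Finset.sum_congr rfl fun χ _ => rho_idem ρ hC χ d

theorem val_sq (hC : ∀ c : C, c * c = 1) (χ : C →* Fˣ) (c : C) : χ c = 1 ∨ χ c = -1 := by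
  have h := chi_sq (F := F) hC χ c
  rcases mul_self_eq_one_iff.1 h with h1 | h1
  · exact Or.inl (Units.ext h1)
  · exact Or.inr (Units.ext (by rw [h1]; simp))

section Five

variable (hC : ∀ c : C, c * c = 1) (h2 : (2 : F) ≠ 0) (h16 : Fintype.card C = 16) (τ : C ≃* C) (m : ℕ)
  (hm : ∀ c, (τ ^ (5 ^ m)) c = c) (hirr : ∀ B : Subgroup C, (∀ b ∈ B, τ b ∈ B) → B = ⊥ ∨ B = ⊤)

include hC h2 in
theorem card_ch [Fintype (C →* Fˣ)] : Fintype.card (C →* Fˣ) = Fintype.card C := by
  have hR := hasRoots hC h2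
  have h4 := CommGroup.card_monoidHom_of_hasEnoughRootsOfUnity C F
  rwa [Nat.card_eq_fintype_card, Nat.card_eq_fintype_card] at h4

include hC h16 hirr in
/-- no fixed characters -/
theorem fix_ch {χ : C →* Fˣ} (h : U τ χ = χ) : χ = 1 := by
  have h1 := hirr χ.ker (by
    intro b hb
    rw [MonoidHom.mem_ker] at hb ⊢
    have : χ (τ b) = U τ χ (τ b) := by rw [h]
    rw [this, U_apply, τ.symm_apply_apply, hb])
  rcases h1 with h1 | h1
  · exfalso
    have hinj := (MonoidHom.ker_eq_bot_iff χ).1 h1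
    classical
    let f : C → Bool := fun c => decide (χ c = 1)
    have hf : Function.Injective f := by
      intro c c' hcc
      apply hinj
      have h3 : (χ c = 1 ↔ χ c' = 1) := by simpa [f, decide_eq_decide] using hcc
      rcases val_sq hC χ c with h4 | h4
      · rw [h4, h3.1 h4]
      · rcases val_sq hC χ c' with h5 | h5
        · rw [h3.2 h5, h5]
        · rw [h4, h5]
    have := Fintype.card_le_of_injective f hf
    rw [h16, Fintype.card_bool] at this
    omega
  · ext c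
    have : c ∈ χ.ker := by rw [h1]; trivial
    rw [MonoidHom.mem_ker] at this
    rw [this]
    rfl

include hm in
theorem iter_m (χ : C →* Fˣ) : (U τ)^[5 ^ m] χ = χ := by
  ext c
  rw [U_iter]
  congr 2
  have h1 : τ ^ (5 ^ m) = 1 := by
    ext c
    exact hm c
  have h3 : (τ.symm : C ≃* C) ^ (5 ^ m) = 1 := by
    have h4 : (τ.symm : C ≃* C) = (τ : MulAut C)⁻¹ := rfl
    rw [h4, inv_pow, h1, inv_one]
  rw [h3]
  rfl

include hC h2 h16 hm hirr in
/-- the orbits of nontrivial characters have length 5 -/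
theorem per_ch {χ : C →* Fˣ} (hχ : χ ≠ 1) : Function.minimalPeriod (U τ) χ = 5 := by
  classical
  have : Finite (C →* Fˣ) := by
    have hR := hasRoots hC h2
    exact Nat.finite_of_card_ne_zero (by
      rw [CommGroup.card_monoidHom_of_hasEnoughRootsOfUnity C F, Nat.card_eq_fintype_card, h16]; norm_num)
  have : Fintype (C →* Fˣ) := Fintype.ofFinite _
  have hd : Function.minimalPeriod (U τ) χ ∣ 5 ^ m := Function.IsPeriodicPt.minimalPeriod_dvd (iter_m τ m hm χ)
  have h1 : Function.minimalPeriod (U τ) χ ≠ 1 := by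
    rw [Ne, Function.minimalPeriod_eq_one_iff_isFixedPt]
    exact fun h => hχ (fix_ch hC h16 τ hirr h)
  obtain ⟨j, hj, hj'⟩ := (Nat.dvd_prime_pow (by norm_num)).1 hd
  have hle : Function.minimalPeriod (U τ) χ ≤ 16 := by
    have hinj : Function.Injective fun k : Fin (Function.minimalPeriod (U τ) χ) => (U τ)^[k] χ := by
      intro a b hab
      exact Fin.ext (Function.iterate_injOn_Iio_minimalPeriod (f := U τ) (x := χ)
        (Set.mem_Iio.2 a.2) (Set.mem_Iio.2 b.2) hab)
    have := Fintype.card_le_of_injective _ hinj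
    rwa [Fintype.card_fin, card_ch hC h2, h16] at this
  rw [hj'] at h1 hle ⊢
  have h3 : j ≠ 0 := by
    rintro rfl
    exact h1 (pow_zero 5)
  have h4 : j < 2 := by
    by_contra hcon
    have : 5 ^ 2 ≤ 5 ^ j := Nat.pow_le_pow_right (by norm_num) (by omega)
    omega
  have : j = 1 := by omega
  rw [this, pow_one]

include hC h2 h16 hm hirr in
theorem iter_five (χ : C →* Fˣ) : (U τ)^[5] χ = χ := by
  by_cases h : χ = 1
  · rw [h, U_iter_one]
  · have := per_ch hC h2 h16 τ m hm hirr h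
    have h1 := Function.iterate_minimalPeriod (f := U τ) (x := χ)
    rwa [this] at h1

include hC h2 h16 hm hirr in
theorem iter_inj {χ : C →* Fˣ} (hχ : χ ≠ 1) {i j : ℕ} (hi : i < 5) (hj : j < 5) (h : (U τ)^[i] χ = (U τ)^[j] χ) :
    i = j := by
  have := per_ch hC h2 h16 τ m hm hirr hχ
  exact Function.iterate_injOn_Iio_minimalPeriod (f := U τ) (x := χ) (Set.mem_Iio.2 (by omega))
    (Set.mem_Iio.2 (by omega)) h

include hC h2 h16 hm hirr in
/-- the product over an orbit is trivial -/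
theorem prod_one (χ : C →* Fˣ) :
    χ * U τ χ * (U τ)^[2] χ * (U τ)^[3] χ * (U τ)^[4] χ = 1 := by
  apply fix_ch hC h16 τ hirr
  rw [U_mul, U_mul, U_mul, U_mul, ← Function.iterate_succ_apply' (U τ), ← Function.iterate_succ_apply' (U τ),
    ← Function.iterate_succ_apply' (U τ)]
  have h1 : U τ (U τ χ) = (U τ)^[2] χ := rfl
  have h3 : (U τ)^[4 + 1] χ = χ := iter_five hC h2 h16 τ m hm hirr χ
  rw [h1, show Nat.succ 4 = 4 + 1 from rfl, h3]
  show U τ χ * (U τ)^[2] χ * (U τ)^[3] χ * (U τ)^[4] χ * χ = _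
  rw [ch_comm _ χ, ← ch_assoc, ← ch_assoc, ← ch_assoc]

variable (Y : Aˣ) (hY : ∀ c, (Y : A) * ρ c = ρ (τ c) * (Y : A)) (hρ : Function.Injective ρ)

theorem card_ne (h2 : (2 : F) ≠ 0) (h16 : Fintype.card C = 16) : (Fintype.card C : F) ≠ 0 := by
  rw [h16]
  have : ((16 : ℕ) : F) = 2 ^ 4 := by norm_num
  rw [this]
  exact pow_ne_zero _ h2

include hC h2 h16 hρ in
/-- an element on which all weights are trivial is trivial -/
theorem eq_one_of_weights {c : C} (h : ∀ χ : C →* Fˣ, idem ρ χ ≠ 0 → χ c = 1) : c = 1 := by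
  classical
  have : Finite (C →* Fˣ) := by
    have hR := hasRoots hC h2
    exact Nat.finite_of_card_ne_zero (by
      rw [CommGroup.card_monoidHom_of_hasEnoughRootsOfUnity C F, Nat.card_eq_fintype_card, h16]; norm_num)
  have : Fintype (C →* Fˣ) := Fintype.ofFinite _
  have hn := card_ne (C := C) h2 h16
  apply hρ
  rw [rho_eq ρ hC hn h2, rho_eq ρ hC hn h2]
  refine Finset.sum_congr rfl fun χ _ => ?_
  by_cases hχ : idem ρ χ = 0
  · rw [hχ, smul_zero, smul_zero]
  · rw [h χ hχ, map_one]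

include hC h2 h16 hρ in
/-- there is a nontrivial weight -/
theorem exists_weight : ∃ χ : C →* Fˣ, idem ρ χ ≠ 0 ∧ χ ≠ 1 := by
  by_contra hcon
  push Not at hcon
  have h1 : ∀ c : C, c = 1 := fun c => eq_one_of_weights ρ hC h2 h16 hρ fun χ hχ => by rw [hcon χ hχ]; rfl
  have : Subsingleton C := ⟨fun a b => by rw [h1 a, h1 b]⟩
  have := Fintype.card_le_one_iff_subsingleton.2 this
  omega

include hC h2 h16 hm hirr hY in
/-- the nontrivial weights form one orbit -/
theorem one_orbit (h7 : Nat.card {χ : C →* Fˣ // idem ρ χ ≠ 0} ≤ 7) {χ ψ : C →* Fˣ} (hχ : idem ρ χ ≠ 0)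
    (hψ : idem ρ ψ ≠ 0) (hχ1 : χ ≠ 1) (hψ1 : ψ ≠ 1) : ∃ i < 5, ψ = (U τ)^[i] χ := by
  classical
  by_contra hcon
  push Not at hcon
  have : Finite (C →* Fˣ) := by
    have hR := hasRoots hC h2
    exact Nat.finite_of_card_ne_zero (by
      rw [CommGroup.card_monoidHom_of_hasEnoughRootsOfUnity C F, Nat.card_eq_fintype_card, h16]; norm_num)
  have five := iter_five (F := F) hC h2 h16 τ m hm hirr
  have hiter : ∀ k : ℕ, ∃ i < 5, (U τ)^[k] χ = (U τ)^[i] χ := by
    intro k
    refine ⟨k % 5, Nat.mod_lt _ (by norm_num), ?_⟩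
    have h1 : Function.IsPeriodicPt (U τ) 5 χ := five χ
    exact (h1.iterate_mod_apply k).symm
  have hdis : ∀ i < 5, ∀ j < 5, (U τ)^[i] ψ ≠ (U τ)^[j] χ := by
    intro i hi j hj h
    have h1 := congrArg ((U τ)^[5 - i]) h
    rw [← Function.iterate_add_apply, ← Function.iterate_add_apply, show 5 - i + i = 5 by omega, five] at h1
    obtain ⟨l, hl, hl'⟩ := hiter (5 - i + j)
    exact hcon l hl (h1.trans hl')
  let f : Fin 5 ⊕ Fin 5 → {χ : C →* Fˣ // idem ρ χ ≠ 0} := fun s => match s with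
    | Sum.inl i => ⟨(U τ)^[i] χ, (idem_U_iter_ne ρ τ Y hY χ i).2 hχ⟩
    | Sum.inr i => ⟨(U τ)^[i] ψ, (idem_U_iter_ne ρ τ Y hY ψ i).2 hψ⟩
  have hf : Function.Injective f := by
    rintro (i | i) (j | j) hij
    · have := congrArg Subtype.val hij
      exact congrArg Sum.inl (Fin.ext (iter_inj hC h2 h16 τ m hm hirr hχ1 i.2 j.2 this))
    · have := congrArg Subtype.val hij
      exact absurd this.symm (hdis j j.2 i i.2)
    · have := congrArg Subtype.val hij
      exact absurd this (hdis i i.2 j j.2)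
    · have := congrArg Subtype.val hij
      exact congrArg Sum.inr (Fin.ext (iter_inj hC h2 h16 τ m hm hirr hψ1 i.2 j.2 this))
  have := Nat.card_le_card_of_injective f hf
  rw [Nat.card_eq_fintype_card, Fintype.card_sum, Fintype.card_fin] at this
  omega

include hC h2 h16 hm hirr hY hρ in
/-- the element `t` -/
theorem exists_t (h7 : Nat.card {χ : C →* Fˣ // idem ρ χ ≠ 0} ≤ 7) {χ : C →* Fˣ} (hχ : idem ρ χ ≠ 0)
    (hχ1 : χ ≠ 1) : ∃ t : C, ρ t = 1 - 2 * (idem ρ χ + (Y : A) * idem ρ χ * ((Y⁻¹ : Aˣ) : A)) := by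
  classical
  have : Finite (C →* Fˣ) := by
    have hR := hasRoots hC h2
    exact Nat.finite_of_card_ne_zero (by
      rw [CommGroup.card_monoidHom_of_hasEnoughRootsOfUnity C F, Nat.card_eq_fintype_card, h16]; norm_num)
  have : Fintype (C →* Fˣ) := Fintype.ofFinite _
  have hn := card_ne (C := C) h2 h16
  have hprod : ∀ c : C, χ c * U τ χ c * (U τ)^[2] χ c * (U τ)^[3] χ c * (U τ)^[4] χ c = 1 := fun c =>
    DFunLike.congr_fun (prod_one hC h2 h16 τ m hm hirr χ) c
  let Φ : C → (Fin 4 → Bool) := fun c i => decide ((U τ)^[i + 1] χ c = 1)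
  have hΦ : Function.Injective Φ := by
    intro c c' hcc
    have h1 : ∀ i : Fin 4, (U τ)^[i + 1] χ c = (U τ)^[i + 1] χ c' := by
      intro i
      have h3 := congrFun hcc i
      simp only [Φ, decide_eq_decide] at h3
      rcases val_sq hC ((U τ)^[i + 1] χ) c with h4 | h4
      · rw [h4, h3.1 h4]
      · rcases val_sq hC ((U τ)^[i + 1] χ) c' with h5 | h5
        · rw [h3.2 h5, h5]
        · rw [h4, h5]
    have k1 := h1 0
    have k2 := h1 1
    have k3 := h1 2
    have k4 := h1 3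
    change U τ χ c = U τ χ c' at k1
    change (U τ)^[2] χ c = (U τ)^[2] χ c' at k2
    change (U τ)^[3] χ c = (U τ)^[3] χ c' at k3
    change (U τ)^[4] χ c = (U τ)^[4] χ c' at k4
    have k0 : χ c = χ c' := by
      have p1 := hprod c
      have p2 := hprod c'
      rw [← p2, k1, k2, k3, k4] at p1
      simpa using p1
    have h3 : c * c'⁻¹ = 1 := by
      apply eq_one_of_weights ρ hC h2 h16 hρ
      intro ψ hψ
      rw [map_mul, map_inv, mul_inv_eq_one]
      by_cases hψ1 : ψ = 1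
      · rw [hψ1]
        rfl
      · obtain ⟨i, hi, rfl⟩ := one_orbit ρ hC h2 h16 τ m hm hirr Y hY h7 hχ hψ hχ1 hψ1
        interval_cases i
        · exact k0
        · exact k1
        · exact k2
        · exact k3
        · exact k4
    exact mul_inv_eq_one.1 h3
  have hbij : Function.Bijective Φ := by
    rw [Fintype.bijective_iff_injective_and_card]
    exact ⟨hΦ, by rw [h16]; simp⟩
  obtain ⟨t, ht⟩ := hbij.2 ![false, true, true, true]
  have e1 : U τ χ t = -1 := by
    have h3 := congrFun ht 0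
    have h4 : ¬ U τ χ t = 1 := by
      intro h
      have : Φ t 0 = true := decide_eq_true h
      rw [this] at h3
      exact absurd h3 (by decide)
    exact (val_sq hC (U τ χ) t).resolve_left h4
  have e2 : (U τ)^[2] χ t = 1 := of_decide_eq_true (congrFun ht 1)
  have e3 : (U τ)^[3] χ t = 1 := of_decide_eq_true (congrFun ht 2)
  have e4 : (U τ)^[4] χ t = 1 := of_decide_eq_true (congrFun ht 3)
  have e0 : χ t = -1 := by
    have := hprod t
    rw [e1, e2, e3, e4, mul_one, mul_one, mul_one, mul_neg, mul_one] at this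
    rw [← this, neg_neg]
  refine ⟨t, ?_⟩
  have hne : χ ≠ U τ χ := fun h => absurd
    (iter_inj hC h2 h16 τ m hm hirr hχ1 (i := 0) (j := 1) (by norm_num) (by norm_num) h) (by norm_num)
  have h5 : ∀ ψ : C →* Fˣ, ((ψ t : Fˣ) : F) • idem ρ ψ = idem ρ ψ - 2 * ((if ψ = χ then idem ρ χ else 0) +
      (if ψ = U τ χ then idem ρ (U τ χ) else 0)) := by
    intro ψ
    by_cases hψ : idem ρ ψ = 0
    · have n1 : ψ ≠ χ := by rintro rfl; exact hχ hψ
      have n2 : ψ ≠ U τ χ := by rintro rfl; exact (idem_U_ne ρ τ Y hY χ).2 hχ hψ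
      rw [hψ, smul_zero, if_neg n1, if_neg n2]
      simp
    · by_cases hψ1 : ψ = 1
      · have n1 : ψ ≠ χ := by rintro rfl; exact hχ1 hψ1
        have n2 : ψ ≠ U τ χ := by
          rintro rfl
          rw [hψ1] at e1
          have : (1 : Fˣ) = -1 := e1
          have h6 := congrArg Units.val this
          apply h2
          have h7 : (1 : F) = -1 := by simpa using h6
          have : (2 : F) = 1 - -1 := by norm_num
          rw [this, ← h7, sub_self]
        rw [if_neg n1, if_neg n2, hψ1]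
        simp
      · obtain ⟨i, hi, rfl⟩ := one_orbit ρ hC h2 h16 τ m hm hirr Y hY h7 hχ hψ hχ1 hψ1
        have inj := fun {a b : ℕ} (ha : a < 5) (hb : b < 5) (h : (U τ)^[a] χ = (U τ)^[b] χ) =>
          iter_inj hC h2 h16 τ m hm hirr hχ1 ha hb h
        by_cases hi0 : i = 0
        · subst hi0
          show ((χ t : Fˣ) : F) • idem ρ χ = idem ρ χ - 2 * ((if χ = χ then idem ρ χ else 0) +
            (if χ = U τ χ then idem ρ (U τ χ) else 0))
          rw [if_pos rfl, if_neg hne, e0, add_zero, two_mul]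
          simp
        · by_cases hi1 : i = 1
          · subst hi1
            show ((U τ χ t : Fˣ) : F) • idem ρ (U τ χ) = idem ρ (U τ χ) - 2 * ((if U τ χ = χ then idem ρ χ else 0) +
              (if U τ χ = U τ χ then idem ρ (U τ χ) else 0))
            rw [if_neg hne.symm, if_pos rfl, e1, zero_add, two_mul]
            simp
          · have n1 : (U τ)^[i] χ ≠ χ := fun h => hi0 (inj (a := i) (b := 0) hi (by norm_num) h)
            have n2 : (U τ)^[i] χ ≠ U τ χ := fun h => hi1 (inj (a := i) (b := 1) hi (by norm_num) h)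
            have h6 : (U τ)^[i] χ t = 1 := by
              interval_cases i
              · exact absurd rfl hi0
              · exact absurd rfl hi1
              · exact e2
              · exact e3
              · exact e4
            rw [if_neg n1, if_neg n2, h6]
            simp
  rw [rho_eq ρ hC hn h2, Finset.sum_congr rfl fun ψ _ => h5 ψ, Finset.sum_sub_distrib, sum_idem ρ hC hn h2,
    ← Finset.mul_sum, Finset.sum_add_distrib, Finset.sum_ite_eq', Finset.sum_ite_eq', if_pos (Finset.mem_univ _),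
    if_pos (Finset.mem_univ _), idem_U ρ τ Y hY]

include hC h2 h16 hm hirr hY hρ in
/-- an element inducing signs commutes with `ρ(C)` -/
theorem comm_of_sign (h7 : Nat.card {χ : C →* Fˣ // idem ρ χ ≠ 0} ≤ 7) (g : Aˣ)
    (hg : ∀ c, (g : A) * ρ c = ρ c * (g : A) ∨ (g : A) * ρ c = -(ρ c * (g : A))) (c : C) :
    (g : A) * ρ c = ρ c * (g : A) := by
  classical
  have : Finite (C →* Fˣ) := by
    have hR := hasRoots hC h2
    exact Nat.finite_of_card_ne_zero (by
      rw [CommGroup.card_monoidHom_of_hasEnoughRootsOfUnity C F, Nat.card_eq_fintype_card, h16]; norm_num)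
  have : Fintype (C →* Fˣ) := Fintype.ofFinite _
  obtain ⟨χ, hχ, hχ1⟩ := exists_weight ρ hC h2 h16 hρ
  have hnt : Nontrivial A := ⟨⟨_, _, hχ⟩⟩
  have hu : ∀ c, IsUnit (ρ c * (g : A)) := fun c => by
    refine IsUnit.mul ?_ g.isUnit
    exact ⟨⟨ρ c, ρ c, by rw [← map_mul, hC, map_one], by rw [← map_mul, hC, map_one]⟩, rfl⟩
  have huniq : ∀ (c : C) (a b : F), a • (ρ c * (g : A)) = b • (ρ c * (g : A)) → a = b := by
    intro c a b h
    have h1 : (a - b) • (ρ c * (g : A)) = 0 := by rw [sub_smul, h, sub_self]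
    rcases smul_eq_zero.1 h1 with h3 | h3
    · exact sub_eq_zero.1 h3
    · exact absurd h3 (hu c).ne_zero
  let δ₀ : C → Fˣ := fun c => if (g : A) * ρ c = ρ c * (g : A) then 1 else -1
  have hδ₀ : ∀ c, (g : A) * ρ c = ((δ₀ c : Fˣ) : F) • (ρ c * (g : A)) := by
    intro c
    by_cases h : (g : A) * ρ c = ρ c * (g : A)
    · simp only [δ₀, if_pos h, Units.val_one, one_smul]
      exact h
    · have h1 := (hg c).resolve_left h
      simp only [δ₀, if_neg h, Units.val_neg, Units.val_one, neg_smul, one_smul]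
      exact h1
  let δ : C →* Fˣ := MonoidHom.mk' δ₀ (by
    intro a b
    apply Units.ext
    apply huniq (a * b)
    rw [← hδ₀, map_mul, Units.val_mul, ← mul_assoc, hδ₀ a, smul_mul_assoc, mul_assoc, hδ₀ b, mul_smul_comm, smul_smul,
      mul_assoc])
  have hδ : ∀ c, (g : A) * ρ c = ((δ c : Fˣ) : F) • (ρ c * (g : A)) := hδ₀
  suffices hδ1 : δ = 1 by
    have := hδ c
    rw [hδ1] at this
    simpa using this
  by_contra hδ1
  have hidem : ∀ ψ : C →* Fˣ, (g : A) * idem ρ ψ = idem ρ (ψ * δ) * (g : A) := by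
    intro ψ
    unfold idem
    rw [mul_smul_comm, smul_mul_assoc]
    congr 1
    rw [Finset.mul_sum, Finset.sum_mul]
    refine Finset.sum_congr rfl fun c _ => ?_
    rw [mul_smul_comm, hδ, smul_mul_assoc, smul_smul]
    rfl
  have hδδ : δ * δ = 1 := by
    ext c
    show ((δ c * δ c : Fˣ) : F) = 1
    rw [← map_mul, hC, map_one]
    rfl
  have hstep : ∀ ψ : C →* Fˣ, idem ρ ψ ≠ 0 → idem ρ (ψ * δ) ≠ 0 := by
    intro ψ hψ h
    apply hψ
    have h1 := hidem ψ
    rw [h, zero_mul] at h1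
    exact (Units.mul_right_eq_zero g).1 h1
  -- the stabilizer
  let E : Subgroup (C →* Fˣ) :=
    { carrier := {ψ | ∀ χ : C →* Fˣ, idem ρ χ ≠ 0 ↔ idem ρ (χ * ψ) ≠ 0}
      one_mem' := fun χ => by rw [ch_one]
      mul_mem' := fun {a b} ha hb χ => by rw [ha χ, hb (χ * a), ch_assoc]
      inv_mem' := fun {a} ha χ => by rw [ha (χ * a⁻¹), ch_inv] }
  have hE : ∀ ψ, ψ ∈ E ↔ ∀ χ : C →* Fˣ, idem ρ χ ≠ 0 ↔ idem ρ (χ * ψ) ≠ 0 := fun ψ => Iff.rfl
  have hδE : δ ∈ E := by
    intro χ
    refine ⟨hstep χ, fun h => ?_⟩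
    have := hstep _ h
    rwa [ch_assoc, hδδ, ch_one] at this
  have hUE : ∀ ψ ∈ E, U τ ψ ∈ E := by
    intro ψ hψ χ
    obtain ⟨χ', rfl⟩ := U_surj τ χ
    rw [← U_mul, idem_U_ne ρ τ Y hY, idem_U_ne ρ τ Y hY]
    exact hψ χ'
  have hUEi : ∀ i : ℕ, (U τ)^[i] δ ∈ E := by
    intro i
    induction i with
    | zero => exact hδE
    | succ i ih => rw [Function.iterate_succ_apply']; exact hUE _ ih
  have h6 : 6 ≤ Nat.card E := by
    let f : Option (Fin 5) → E := fun o => match o with
      | none => 1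
      | some i => ⟨(U τ)^[i] δ, hUEi i⟩
    have hne : ∀ i : ℕ, (U τ)^[i] δ ≠ 1 := by
      intro i
      induction i with
      | zero => exact hδ1
      | succ i ih =>
        rw [Function.iterate_succ_apply']
        intro h
        apply ih
        have h1 : Function.Injective (U (F := F) τ) := by
          intro a b hab
          ext c
          have := DFunLike.congr_fun hab (τ c)
          rw [U_apply, U_apply, τ.symm_apply_apply] at this
          rw [this]
        exact h1 (h.trans (U_one τ).symm)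
    have hf : Function.Injective f := by
      rintro (_ | i) (_ | j) hij
      · rfl
      · exact absurd (congrArg Subtype.val hij).symm (hne j)
      · exact absurd (congrArg Subtype.val hij) (hne i)
      · exact congrArg some (Fin.ext (iter_inj hC h2 h16 τ m hm hirr hδ1 i.2 j.2 (congrArg Subtype.val hij)))
    have := Nat.card_le_card_of_injective f hf
    rwa [Nat.card_eq_fintype_card, Fintype.card_option, Fintype.card_fin] at this
  have hdvd : Nat.card E ∣ 16 := by
    have := Subgroup.card_subgroup_dvd_card E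
    rwa [Nat.card_eq_fintype_card (α := C →* Fˣ), card_ch hC h2, h16] at this
  have h8 : 8 ≤ Nat.card E := by
    have h9 : Nat.card E ∈ Nat.divisors 16 := Nat.mem_divisors.2 ⟨hdvd, by norm_num⟩
    have h10 : Nat.divisors 16 = {1, 2, 4, 8, 16} := by decide
    rw [h10] at h9
    simp only [Finset.mem_insert, Finset.mem_singleton] at h9
    omega
  have hinj : Function.Injective fun ψ : E => (⟨χ * ψ, (ψ.2 χ).1 hχ⟩ : {χ : C →* Fˣ // idem ρ χ ≠ 0}) := by
    intro a b hab
    exact Subtype.ext (mul_left_cancel (congrArg Subtype.val hab))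
  have := Nat.card_le_card_of_injective _ hinj
  omega

end Five

end Core

end Cfsg.Agent.H263.KS
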