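import Cfsg.Agent.H263.KS.Core
import Cfsg.Agent.H352.KS.Wt

/-!
# S4577, classical rows: `PC2` (helper263)

The weights of the complement `D₀`.
-/

set_option autoImplicit false
set_option linter.unusedSectionVars false

open Cfsg Cfsg.Agent.H613.KS Cfsg.Agent.H503.KKL Cfsg.Agent.H352.KS

namespace Cfsg.Agent.H263.KS

section Frame

variable {F R S : Type} [Field F] [Ring R] [Algebra F R] [Finite R] [Group S] {σ : R →+ R}
    {I X : Subgroup Rˣ} {π : X →* S}

/-- elements with central commutator -/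
theorem sign_of_ker (hF : Frame σ I X π) {g d : X} (h : π g * π d = π d * π g) :
    ((g : Rˣ) : R) * ((d : Rˣ) : R) = ((d : Rˣ) : R) * ((g : Rˣ) : R) ∨
      ((g : Rˣ) : R) * ((d : Rˣ) : R) = -(((d : Rˣ) : R) * ((g : Rˣ) : R)) := by
  have h1 : π (g * d * (d * g)⁻¹) = 1 := by
    rw [map_mul, map_mul, map_inv, map_mul, h, mul_inv_cancel]
  have h2 : ((g : Rˣ) : R) * ((d : Rˣ) : R) = ((g * d * (d * g)⁻¹ : X) : Rˣ) * (((d : Rˣ) : R) * ((g : Rˣ) : R)) := by
    have h3 : g * d = (g * d * (d * g)⁻¹) * (d * g) := by group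
    have h4 := congrArg (fun u : X => ((u : Rˣ) : R)) h3
    simpa only [Subgroup.coe_mul, Units.val_mul] using h4
  rcases hF.ker _ h1 with h5 | h5
  · left
    rw [h2, h5, one_mul]
  · right
    rw [h2, h5, neg_mul, one_mul]

/-- a lift of `x` commuting with `D₀` -/
theorem exists_lift (hF : Frame σ I X π) {D : Subgroup S} {x : S} (hc : Cfg D x) {y₀ : X} {D₀ : Subgroup X}
    (hD : Cmp X π D y₀ D₀) : ∃ x₀ : X, π x₀ = x ∧ ∀ d ∈ D₀, ((x₀ : Rˣ) : R) * ((d : Rˣ) : R) =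
      ((d : Rˣ) : R) * ((x₀ : Rˣ) : R) := by
  obtain ⟨N, hN⟩ := hc.odd
  obtain ⟨u, hu⟩ := hF.surj (x ^ (N + 1))
  refine ⟨u * u, ?_, ?_⟩
  · rw [map_mul, hu, ← pow_add, show N + 1 + (N + 1) = orderOf x + 1 by omega, pow_succ, pow_orderOf_eq_one, one_mul]
  · intro d hd
    have hdD : π d ∈ D := by
      rw [← hD.map]
      exact ⟨d, hd, rfl⟩
    have h1 : π u * π d = π d * π u := by
      rw [hu]
      have h2 : Commute (π d) x := hc.comm _ hdD
      exact (h2.pow_right _).eq.symm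
    rw [Subgroup.coe_mul, Units.val_mul]
    rcases sign_of_ker hF h1 with h3 | h3
    · rw [mul_assoc, h3, ← mul_assoc, h3, mul_assoc]
    · rw [mul_assoc, h3, mul_neg, ← mul_assoc, h3, neg_mul, neg_neg, mul_assoc]

/-- elementary abelian subgroups of the centralizer -/
theorem card_le (hF : Frame σ I X π) {D : Subgroup S} {x : S} (hc : Cfg D x) {x₀ : X} (hx : π x₀ = x)
    (Q : Subgroup X) (hQ : ∀ q ∈ Q, q * q = 1) (hQx : ∀ q ∈ Q, q * x₀ = x₀ * q) : Nat.card Q ≤ 32 := by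
  classical
  have h1 : Nat.card (Q.map π) ≤ 16 := by
    obtain ⟨c, -, hcQ⟩ := hc.syl (Q.map π) (by
      rintro ⟨_, q, hq, rfl⟩
      refine ⟨1, Subtype.ext ?_⟩
      simp only [pow_one, pow_two, Subgroup.coe_mul, Subgroup.coe_one]
      rw [← map_mul, hQ q hq, map_one]) (by
      rintro _ ⟨q, hq, rfl⟩
      rw [← hx, ← map_mul, hQx q hq, map_mul])
    rw [← hc.e16.card]
    have : Finite D := Nat.finite_of_card_ne_zero (by rw [hc.e16.card]; norm_num)
    refine Nat.card_le_card_of_injective (fun q : Q.map π => (⟨c * q * c⁻¹, hcQ q q.2⟩ : D)) ?_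
    intro q q' hqq
    have := congrArg Subtype.val hqq
    simp only [mul_left_inj, mul_right_inj] at this
    exact Subtype.ext this
  let f : Q →* S := π.comp Q.subtype
  have h2 : Nat.card f.range ≤ 16 := by
    have : f.range = Q.map π := by
      rw [MonoidHom.range_comp, Subgroup.range_subtype]
    rw [this]
    exact h1
  have h3 : Nat.card f.ker ≤ 2 := by
    let g : f.ker → Bool := fun q => decide ((((q : Q) : X) : Rˣ) = 1)
    have hg : Function.Injective g := by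
      intro a b hab
      have h4 : ((((a : Q) : X) : Rˣ) = 1 ↔ (((b : Q) : X) : Rˣ) = 1) := by
        simpa [g, decide_eq_decide] using hab
      apply Subtype.ext
      apply Subtype.ext
      apply Subtype.ext
      have ha : π ((a : Q) : X) = 1 := a.2
      have hb : π ((b : Q) : X) = 1 := b.2
      by_cases h5 : (((a : Q) : X) : Rˣ) = 1
      · rw [h5, h4.1 h5]
      · have h6 : (((b : Q) : X) : Rˣ) ≠ 1 := fun h => h5 (h4.2 h)
        have h7 := (hF.ker _ ha).resolve_left (fun h => h5 (Units.ext h))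
        have h8 := (hF.ker _ hb).resolve_left (fun h => h6 (Units.ext h))
        exact Units.ext (h7.trans h8.symm)
    have := Nat.card_le_card_of_injective g hg
    simpa using this
  have h4 := Subgroup.card_mul_index f.ker
  rw [Subgroup.index_ker] at h4
  rw [← h4]
  calc _ ≤ 2 * 16 := Nat.mul_le_mul h3 h2
    _ = 32 := by norm_num

end Frame

/-- **(C2)** -/
theorem pc2 : PC2 := by
  classical
  intro F R S _ _ _ _ _ h2 σ hσ I X π hF D x y₀ hc hy hm D₀ hD
  obtain ⟨m, hm⟩ := hm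
  have hcommD : ∀ a ∈ D₀, ∀ b ∈ D₀, a * b = b * a := by
    intro d hd e he
    have h1 := hD.sq _ (D₀.mul_mem hd he)
    have h2 := hD.sq d hd
    have h3 := hD.sq e he
    calc d * e = d * ((d * e) * (d * e)) * e := by rw [h1, mul_one]
      _ = (d * d) * (e * d) * (e * e) := by group
      _ = e * d := by rw [h2, h3, one_mul, mul_one]
  letI : CommGroup D₀ := { (inferInstance : Group D₀) with
    mul_comm := fun a b => Subtype.ext (hcommD a a.2 b b.2) }
  have hfD : Fintype D₀ := Fintype.ofFinite _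
  let ρ : D₀ →* R := (Units.coeHom R).comp (X.subtype.comp D₀.subtype)
  have hρ : ∀ c : D₀, ρ c = (((c : X) : Rˣ) : R) := fun c => rfl
  have hρi : Function.Injective ρ := by
    intro c c' h
    exact Subtype.ext (Subtype.ext (Units.ext h))
  have hC : ∀ c : D₀, c * c = 1 := fun c => Subtype.ext (hD.sq c c.2)
  have h16 : Fintype.card D₀ = 16 := by
    rw [← Nat.card_eq_fintype_card, ← hc.e16.card]
    refine Nat.card_congr (Equiv.ofBijective (fun d : D₀ => (⟨π d, by rw [← hD.map]; exact ⟨d, d.2, rfl⟩⟩ : D)) ⟨?_, ?_⟩)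
    · intro d e hde
      have h1 : π (d : X) = π (e : X) := congrArg Subtype.val hde
      have h3 : π ((d : X) * (e : X)⁻¹) = 1 := by rw [map_mul, map_inv, h1, mul_inv_cancel]
      have h4 := hD.inj _ (D₀.mul_mem d.2 (D₀.inv_mem e.2)) h3
      exact Subtype.ext (mul_inv_eq_one.1 h4)
    · rintro ⟨s, hs⟩
      rw [← hD.map] at hs
      obtain ⟨d, hd, hds⟩ := hs
      exact ⟨⟨d, hd⟩, Subtype.ext hds⟩
  let τ : D₀ ≃* D₀ :=
    { toFun := fun d => ⟨y₀ * d * y₀⁻¹, (hD.norm d).2 d.2⟩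
      invFun := fun d => ⟨y₀⁻¹ * d * y₀, (hD.norm _).1 (by
        have e : y₀ * (y₀⁻¹ * (d : X) * y₀) * y₀⁻¹ = d := by group
        rw [e]; exact d.2)⟩
      left_inv := fun d => Subtype.ext (by show y₀⁻¹ * (y₀ * d * y₀⁻¹) * y₀ = d; group)
      right_inv := fun d => Subtype.ext (by show y₀ * (y₀⁻¹ * d * y₀) * y₀⁻¹ = d; group)
      map_mul' := fun d e => Subtype.ext (by show y₀ * (d * e) * y₀⁻¹ = (y₀ * d * y₀⁻¹) * (y₀ * e * y₀⁻¹); group) }
  have hτ : ∀ d : D₀, ((τ d : D₀) : X) = y₀ * d * y₀⁻¹ := fun d => rfl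
  have hτk : ∀ (k : ℕ) (d : D₀), (((τ ^ k) d : D₀) : X) = y₀ ^ k * d * (y₀ ^ k)⁻¹ := by
    intro k
    induction k with
    | zero => intro d; simp
    | succ k ih =>
      intro d
      rw [pow_succ' τ, MulAut.mul_apply, hτ, ih, pow_succ']
      group
  have hm' : ∀ c : D₀, (τ ^ (5 ^ m)) c = c := by
    intro c
    apply Subtype.ext
    rw [hτk, ← hm, pow_orderOf_eq_one]
    simp
  have hY : ∀ c : D₀, ((y₀ : Rˣ) : R) * ρ c = ρ (τ c) * ((y₀ : Rˣ) : R) := by
    intro c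
    have h1 : y₀ * c = (τ c : D₀) * y₀ := by rw [hτ, inv_mul_cancel_right]
    exact congrArg (fun g : X => ((g : Rˣ) : R)) h1
  have hirr : ∀ B : Subgroup D₀, (∀ b ∈ B, τ b ∈ B) → B = ⊥ ∨ B = ⊤ := by
    intro B hB
    rcases hy.irr ((B.map D₀.subtype).map π) (by
      rw [← hD.map]
      exact Subgroup.map_mono (Subgroup.map_subtype_le B)) (by
      rintro _ ⟨_, ⟨b, hb, rfl⟩, rfl⟩
      refine ⟨_, ⟨τ b, hB b hb, rfl⟩, ?_⟩
      show π (y₀ * b * y₀⁻¹) = _
      rw [map_mul, map_mul, map_inv]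
      rfl) with h1 | h1
    · left
      rw [eq_bot_iff]
      intro b hb
      have h3 : π (b : X) ∈ (B.map D₀.subtype).map π := ⟨_, ⟨b, hb, rfl⟩, rfl⟩
      rw [h1, Subgroup.mem_bot] at h3
      exact Subtype.ext (hD.inj _ b.2 h3)
    · right
      rw [eq_top_iff]
      intro d _
      have h3 : π (d : X) ∈ D := by rw [← hD.map]; exact ⟨d, d.2, rfl⟩
      rw [← h1] at h3
      obtain ⟨_, ⟨b, hb, rfl⟩, hbd⟩ := h3
      have h4 : π ((b : X) * (d : X)⁻¹) = 1 := by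
        rw [map_mul, map_inv]
        have : π (b : X) = π (d : X) := hbd
        rw [this, mul_inv_cancel]
      have h5 := hD.inj _ (D₀.mul_mem b.2 (D₀.inv_mem d.2)) h4
      have h6 : b = d := Subtype.ext (mul_inv_eq_one.1 h5)
      rwa [← h6]
  have hn := card_ne (F := F) (C := D₀) h2 h16
  have hfX : Finite (D₀ →* Fˣ) := by
    have hR := hasRoots hC h2
    exact Nat.finite_of_card_ne_zero (by
      rw [CommGroup.card_monoidHom_of_hasEnoughRootsOfUnity D₀ F, Nat.card_eq_fintype_card, h16]; norm_num)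
  have hfX' : Fintype (D₀ →* Fˣ) := Fintype.ofFinite _
  -- `σ` fixes the idempotents
  have hσρ : ∀ c : D₀, σ (ρ c) = ρ c := by
    intro c
    have h1 : σ (ρ c) * ρ c = 1 := (hF.mem _).1 (hF.le (c : X).2)
    have h3 : ρ c * ρ c = 1 := by rw [← map_mul, hC, map_one]
    calc σ (ρ c) = σ (ρ c) * (ρ c * ρ c) := by rw [h3, mul_one]
      _ = ρ c := by rw [← mul_assoc, h1, one_mul]
  have hσi : ∀ χ : D₀ →* Fˣ, σ (idem ρ χ) = idem ρ χ := by
    intro χ
    unfold idem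
    rw [hσ, map_sum]
    congr 1
    refine Finset.sum_congr rfl fun c _ => ?_
    rw [hσ, hσρ]
  have hσs : ∀ ε, σ (sg ρ hC hn h2 ε) = sg ρ hC hn h2 ε := by
    intro ε
    rw [sg_apply, map_sum]
    refine Finset.sum_congr rfl fun χ _ => ?_
    rw [hσ, hσi]
  -- the group of sign changes
  let T : Subgroup Rˣ := (sg ρ hC hn h2).toHomUnits.range
  have hTv : ∀ ε, (((sg ρ hC hn h2).toHomUnits ε : Rˣ) : R) = sg ρ hC hn h2 ε := fun ε => rfl
  have hTI : T ≤ I := by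
    rintro _ ⟨ε, rfl⟩
    rw [hF.mem, hTv, hσs, sg_sq]
  obtain ⟨x₀, hx₀, hx₀D⟩ := exists_lift hF hc hD
  have hQ := card_le hF hc hx₀ (T.subgroupOf X) (by
    rintro ⟨q, hq⟩ ⟨ε, hε⟩
    apply Subtype.ext
    apply Units.ext
    have h1 : q = (sg ρ hC hn h2).toHomUnits ε := hε.symm
    show ((q * q : Rˣ) : R) = 1
    rw [h1, Units.val_mul, hTv, sg_sq]) (by
    rintro ⟨q, hq⟩ ⟨ε, hε⟩
    apply Subtype.ext
    apply Units.ext
    have h1 : q = (sg ρ hC hn h2).toHomUnits ε := hε.symm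
    show ((q * x₀ : Rˣ) : R) = ((x₀ * q : Rˣ) : R)
    rw [h1, Units.val_mul, Units.val_mul, hTv]
    exact sg_comm ρ hC hn h2 ε fun c => (hx₀D c c.2).symm)
  have hcT : Nat.card T ≤ 128 := by
    have h1 : X.relIndex T ≤ 4 := by
      refine (Subgroup.relIndex_le_of_le_right hTI ?_).trans hF.idx
      exact Subgroup.index_ne_zero_of_finite
    have h3 := Subgroup.card_mul_index (X.subgroupOf T)
    have h4 : Nat.card (X.subgroupOf T) ≤ Nat.card (T.subgroupOf X) := by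
      refine Nat.card_le_card_of_injective
        (fun g => (⟨⟨g.1.1, g.2⟩, g.1.2⟩ : T.subgroupOf X)) ?_
      intro g g' h
      have h1 : g.1.1 = g'.1.1 := congrArg (fun u => (u.1.1 : Rˣ)) h
      exact Subtype.ext (Subtype.ext h1)
    rw [← h3]
    calc _ ≤ 32 * 4 := Nat.mul_le_mul (h4.trans hQ) h1
      _ = 128 := by norm_num
  have h7 : Nat.card {χ : D₀ →* Fˣ // idem ρ χ ≠ 0} ≤ 7 := by
    let ext : ({χ : D₀ →* Fˣ // idem ρ χ ≠ 0} → ℤˣ) → ((D₀ →* Fˣ) → ℤˣ) := fun ε χ =>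
      if h : idem ρ χ ≠ 0 then ε ⟨χ, h⟩ else 1
    have hinj : Function.Injective fun ε => (⟨(sg ρ hC hn h2).toHomUnits (ext ε), ext ε, rfl⟩ : T) := by
      intro ε ε' h
      have h1 : (sg ρ hC hn h2).toHomUnits (ext ε) = (sg ρ hC hn h2).toHomUnits (ext ε') := congrArg Subtype.val h
      have h3 : sg ρ hC hn h2 (ext ε) = sg ρ hC hn h2 (ext ε') := by rw [← hTv, ← hTv, h1]
      funext χ
      have h4 := sg_inj ρ hC hn h2 h3 χ.1 χ.2
      simp only [ext, dif_pos χ.2] at h4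
      exact h4
    have h1 := Nat.card_le_card_of_injective _ hinj
    have h3 : Nat.card ({χ : D₀ →* Fˣ // idem ρ χ ≠ 0} → ℤˣ) = 2 ^ Nat.card {χ : D₀ →* Fˣ // idem ρ χ ≠ 0} := by
      rw [Nat.card_fun, Nat.card_eq_fintype_card (α := ℤˣ)]
      rfl
    rw [h3] at h1
    by_contra hcon
    have h4 : 2 ^ 8 ≤ 2 ^ Nat.card {χ : D₀ →* Fˣ // idem ρ χ ≠ 0} := Nat.pow_le_pow_right (by norm_num) (by omega)
    omega
  -- the weight
  obtain ⟨χ, hχ, hχ1⟩ := exists_weight ρ hC h2 h16 hρi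
  obtain ⟨t, ht⟩ := exists_t ρ hC h2 h16 τ m hm' hirr (y₀ : Rˣ) hY hρi h7 hχ hχ1
  have hyk : ∀ k : ℕ, (((y₀ ^ k : X) : Rˣ) : R) = (((y₀ : Rˣ) ^ k : Rˣ) : R) := fun k => rfl
  refine ⟨idem ρ χ, t, ⟨hD.map, hD.inj, hD.sq, hD.norm, hχ, hσi χ, ?_, ?_, ?_, ?_, ?_, t.2, ht, ?_⟩⟩
  · rw [idem_mul ρ hC hn, if_pos rfl]
  · intro i hi1 hi4
    have h1 := idem_U_iter ρ τ (y₀ : Rˣ) hY χ i
    have h3 : (((y₀ ^ i : X) : Rˣ) : R) * idem ρ χ * (((y₀ ^ i : X)⁻¹ : X) : Rˣ) = idem ρ ((U τ)^[i] χ) := h1.symm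
    rw [h3, idem_mul ρ hC hn, if_neg]
    intro h4
    have := iter_inj hC h2 h16 τ m hm' hirr hχ1 (i := 0) (j := i) (by norm_num) (by omega) h4
    omega
  · have h1 := idem_U_iter ρ τ (y₀ : Rˣ) hY χ 5
    rw [iter_five hC h2 h16 τ m hm' hirr] at h1
    have h3 : idem ρ χ * (((y₀ : Rˣ) ^ 5 : Rˣ) : R) = (((y₀ : Rˣ) ^ 5 : Rˣ) : R) * idem ρ χ := by
      conv_lhs => rw [h1]
      rw [mul_assoc, Units.inv_mul, mul_one]
    exact h3.symm
  · intro r hr
    unfold idem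
    rw [smul_mul_assoc, mul_smul_comm, Finset.sum_mul, Finset.mul_sum]
    congr 1
    refine Finset.sum_congr rfl fun c _ => ?_
    rw [smul_mul_assoc, mul_smul_comm]
    congr 1
    exact hr c c.2
  · intro d hd
    have h1 := rho_idem ρ hC χ ⟨d, hd⟩
    rcases val_sq hC χ ⟨d, hd⟩ with h3 | h3
    · left
      rw [h3, Units.val_one, one_smul] at h1
      exact h1
    · right
      rw [h3, Units.val_neg, Units.val_one, neg_smul, one_smul] at h1
      exact h1
  · intro g hg d hd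
    have h1 := comm_of_sign ρ hC h2 h16 τ m hm' hirr (y₀ : Rˣ) hY hρi h7 (g : Rˣ) (by
      intro c
      exact sign_of_ker hF (hg _ (by rw [← hD.map]; exact ⟨c, c.2, rfl⟩))) ⟨d, hd⟩
    exact Subtype.ext (Units.ext h1)

end Cfsg.Agent.H263.KS
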